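import Groth.Agent.PairHens.Construction
import Groth.Agent.Henselization.Properties
import Mathlib.RingTheory.AdicCompletion.Functoriality
import Mathlib.RingTheory.Unramified.Finite
import Mathlib.RingTheory.Filtration

/-!
Basic properties of henselizations of pairs.
-/

namespace Groth.Agent.PairHens

universe u

open TensorProduct

noncomputable section

variable {R : Type u} [CommRing R] {I : Ideal R}

theorem exists_algEquiv {B : Type u} [CommRing B] [Algebra R B]
    (hB : Hens2.IsPairHenselization R I B) : Nonempty (Hz R I ≃ₐ[R] B) := by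
  have hH := isPairHenselization R I
  obtain ⟨g, hg, -⟩ := hH.2 B _ (algebraMap R B) hB.1 le_rfl
  obtain ⟨g', hg', -⟩ := hB.2 (Hz R I) _ (algebraMap R _) hH.1 le_rfl
  have h1 : g.comp g' = RingHom.id B :=
    (hB.2 B _ (algebraMap R B) hB.1 le_rfl).unique (by rw [RingHom.comp_assoc, hg', hg])
      (RingHom.id_comp _)
  have h2 : g'.comp g = RingHom.id _ :=
    (hH.2 _ _ (algebraMap R (Hz R I)) hH.1 le_rfl).unique
      (by rw [RingHom.comp_assoc, hg, hg']) (RingHom.id_comp _)
  exact ⟨{ toRingEquiv := RingEquiv.ofRingHom g g' h1 h2, commutes' := RingHom.congr_fun hg }⟩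

theorem flat_of_isPairHenselization {B : Type u} [CommRing B] [Algebra R B]
    (hB : Hens2.IsPairHenselization R I B) : Module.Flat R B := by
  obtain ⟨e⟩ := exists_algEquiv hB
  exact Module.Flat.of_linearEquiv e.symm.toLinearEquiv

/-- The point `B → R ⧸ I` of a henselization. -/
theorem exists_point {B : Type u} [CommRing B] [Algebra R B]
    (hB : Hens2.IsPairHenselization R I B) :
    ∃ ε : B →ₐ[R] R ⧸ I, RingHom.ker ε.toRingHom = I.map (algebraMap R B) ∧
      ∀ b, IsUnit b ↔ IsUnit (ε b) := by
  obtain ⟨e⟩ := exists_algEquiv hB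
  refine ⟨(εH R I).comp e.symm.toAlgHom, ?_, fun b => ?_⟩
  · ext b
    show εH R I (e.symm b) = 0 ↔ _
    rw [← mem_map_iff]
    constructor
    · intro h
      have := Ideal.mem_map_of_mem e.toAlgHom.toRingHom h
      rw [Ideal.map_map, show e.toAlgHom.toRingHom.comp (algebraMap R _) = algebraMap R B from RingHom.ext e.commutes] at this
      simpa using this
    · intro h
      have := Ideal.mem_map_of_mem e.symm.toAlgHom.toRingHom h
      rw [Ideal.map_map, show e.symm.toAlgHom.toRingHom.comp (algebraMap R _) = algebraMap R (Hz R I) from RingHom.ext e.symm.commutes] at this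
      exact this
  · show _ ↔ IsUnit (εH R I (e.symm b))
    rw [← isUnit_iff]
    exact (isUnit_map_iff e.symm b).symm

theorem exists_sub_mem_map_pow {B : Type u} [CommRing B] [Algebra R B]
    (hB : Hens2.IsPairHenselization R I B) (n : ℕ) (x : B) :
    ∃ r, x - algebraMap R B r ∈ (I ^ n).map (algebraMap R B) := by
  obtain ⟨ε, hε, -⟩ := exists_point hB
  induction n generalizing x with
  | zero => exact ⟨0, by rw [pow_zero, Ideal.one_eq_top, Ideal.map_top]; trivial⟩
  | succ n ih =>
    have base : ∀ y : B, ∃ r, y - algebraMap R B r ∈ I.map (algebraMap R B) := fun y => by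
      obtain ⟨r, hr⟩ := Ideal.Quotient.mk_surjective (ε y)
      refine ⟨r, ?_⟩
      rw [← hε]
      show ε (y - algebraMap R B r) = 0
      rw [map_sub, ε.commutes, Ideal.Quotient.algebraMap_eq, hr, sub_self]
    have key : ∀ y ∈ I.map (algebraMap R B), ∀ c, ∃ r, c * y - algebraMap R B r ∈
        (I ^ (n + 1)).map (algebraMap R B) := by
      intro y hy
      induction hy using Submodule.span_induction with
      | mem y hy =>
        intro c
        obtain ⟨a, ha, rfl⟩ := hy
        obtain ⟨r, hr⟩ := ih c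
        refine ⟨r * a, ?_⟩
        rw [map_mul, ← sub_mul, pow_succ, Ideal.map_mul]
        exact Ideal.mul_mem_mul hr (Ideal.mem_map_of_mem _ ha)
      | zero => exact fun c => ⟨0, by simp⟩
      | add y z _ _ h1 h2 =>
        intro c
        obtain ⟨r, hr⟩ := h1 c
        obtain ⟨r', hr'⟩ := h2 c
        exact ⟨r + r', by rw [map_add, mul_add, add_sub_add_comm]; exact add_mem hr hr'⟩
      | smul d y _ h =>
        intro c
        obtain ⟨r, hr⟩ := h (c * d)
        exact ⟨r, by rw [smul_eq_mul, ← mul_assoc]; exact hr⟩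
    obtain ⟨r, hr⟩ := base x
    obtain ⟨r', hr'⟩ := key _ hr 1
    exact ⟨r + r', by rwa [one_mul, sub_sub, ← map_add] at hr'⟩

theorem comap_map_eq {B : Type u} [CommRing B] [Algebra R B]
    (hB : Hens2.IsPairHenselization R I B) (J : Ideal R) (n : ℕ) (hJ : I ^ n ≤ J) :
    (J.map (algebraMap R B)).comap (algebraMap R B) = J := by
  refine le_antisymm (fun r hr => ?_) Ideal.le_comap_map
  haveI := flat_of_isPairHenselization hB
  let Q := R ⧸ J
  -- `B ⊗ (R/J) = B/JB` sees `R/J`
  suffices hQ : ∀ q : Q, (1 : B) ⊗ₜ[R] q = 0 → q = 0 by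
    rw [← Ideal.Quotient.eq_zero_iff_mem]
    apply hQ
    have h1 : (TensorProduct.tensorQuotEquivQuotSMul B J) ((1 : B) ⊗ₜ[R] Ideal.Quotient.mk J r) =
        Submodule.Quotient.mk (r • (1 : B)) :=
      TensorProduct.tensorQuotEquivQuotSMul_tmul_mk J 1 r
    apply (TensorProduct.tensorQuotEquivQuotSMul B J).injective
    rw [h1, map_zero, Submodule.Quotient.mk_eq_zero, Ideal.smul_top_eq_map, Submodule.restrictScalars_mem,
      Algebra.smul_def, mul_one]
    exact hr
  intro q hq
  -- the annihilator of `q` contains `I ^ n` and meets `1 + I`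
  let a : Ideal R := LinearMap.ker (LinearMap.toSpanSingleton R Q q)
  let f : R ⧸ a →ₗ[R] Q := Submodule.liftQ a (LinearMap.toSpanSingleton R Q q) le_rfl
  have hf : Function.Injective f := LinearMap.ker_eq_bot.1 (Submodule.ker_liftQ_eq_bot' _ _ rfl)
  have h1 := Module.Flat.lTensor_preserves_injective_linearMap (M := B) f hf
  have hone : (1 : B) ⊗ₜ[R] (Submodule.Quotient.mk (1 : R) : R ⧸ a) = 0 := by
    apply h1
    rw [map_zero, LinearMap.lTensor_tmul]
    show (1 : B) ⊗ₜ[R] ((1 : R) • q) = 0
    rw [one_smul, hq]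
  have h2 : (1 : B) ∈ a.map (algebraMap R B) := by
    have := congrArg (TensorProduct.tensorQuotEquivQuotSMul B a) hone
    erw [TensorProduct.tensorQuotEquivQuotSMul_tmul_mk, map_zero, Submodule.Quotient.mk_eq_zero,
      Ideal.smul_top_eq_map, Submodule.restrictScalars_mem, one_smul] at this
    exact this
  obtain ⟨ε, -, -⟩ := exists_point hB
  have h3 := Ideal.mem_map_of_mem ε.toRingHom h2
  rw [Ideal.map_map, show ε.toRingHom.comp (algebraMap R B) = Ideal.Quotient.mk I from RingHom.ext ε.commutes, map_one,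
    Ideal.mem_map_iff_of_surjective _ Ideal.Quotient.mk_surjective] at h3
  obtain ⟨c, hc, hc1⟩ := h3
  rw [← map_one (Ideal.Quotient.mk I), Ideal.Quotient.eq] at hc1
  have hsup : (1 : R) ∈ a ⊔ I := by
    rw [show (1 : R) = c - (c - 1) by ring]
    exact sub_mem (Ideal.mem_sup_left hc) (Ideal.mem_sup_right hc1)
  have hIn : I ^ n ≤ a := fun x hx => by
    show x • q = 0
    obtain ⟨q, rfl⟩ := Ideal.Quotient.mk_surjective q
    exact Ideal.Quotient.eq_zero_iff_mem.2 (Ideal.mul_mem_right _ _ (hJ hx))
  have htop : a = ⊤ := by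
    rw [← Ideal.eq_top_iff_one] at hsup
    have := Ideal.sup_pow_eq_top (n := n) hsup
    rwa [sup_eq_left.2 hIn] at this
  have : (1 : R) ∈ a := htop ▸ Submodule.mem_top
  simpa [a] using this

theorem quotientMap_pow_bijective {B : Type u} [CommRing B] [Algebra R B]
    (hB : Hens2.IsPairHenselization R I B) (n : ℕ) :
    Function.Bijective (Ideal.quotientMap ((I ^ n).map (algebraMap R B)) (algebraMap R B)
      Ideal.le_comap_map) := by
  refine ⟨Ideal.quotientMap_injective' (comap_map_eq hB _ n le_rfl).le, fun y => ?_⟩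
  obtain ⟨x, rfl⟩ := Ideal.Quotient.mk_surjective y
  obtain ⟨r, hr⟩ := exists_sub_mem_map_pow hB n x
  exact ⟨Ideal.Quotient.mk _ r, (Ideal.Quotient.eq.2 hr).symm⟩

theorem adicCompletion_map_bijective {B : Type u} [CommRing B] [Algebra R B]
    (hB : Hens2.IsPairHenselization R I B) :
    Function.Bijective (AdicCompletion.map I (Algebra.linearMap R B) :
      AdicCompletion I R → AdicCompletion I B) := by
  have hmap : ∀ n, ((I ^ n • ⊤ : Submodule R B)) = ((I ^ n).map (algebraMap R B)).restrictScalars R :=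
    fun n => Ideal.smul_top_eq_map _
  have hinj : ∀ n, Function.Injective ((Algebra.linearMap R B).reduceModIdeal (I ^ n)) := by
    intro n
    rw [injective_iff_map_eq_zero]
    intro x hx
    obtain ⟨r, rfl⟩ := Submodule.Quotient.mk_surjective _ x
    change Submodule.Quotient.mk (algebraMap R B r) = 0 at hx
    rw [Submodule.Quotient.mk_eq_zero, hmap, Submodule.restrictScalars_mem, ← Ideal.mem_comap,
      comap_map_eq hB _ n le_rfl] at hx
    rw [Submodule.Quotient.mk_eq_zero, smul_eq_mul, Ideal.mul_top]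
    exact hx
  have hsurj : ∀ n, Function.Surjective ((Algebra.linearMap R B).reduceModIdeal (I ^ n)) := by
    intro n x
    obtain ⟨b, rfl⟩ := Submodule.Quotient.mk_surjective _ x
    obtain ⟨r, hr⟩ := exists_sub_mem_map_pow hB n b
    refine ⟨Submodule.Quotient.mk r, ?_⟩
    show Submodule.Quotient.mk (algebraMap R B r) = _
    rw [eq_comm, Submodule.Quotient.eq, hmap]
    exact hr
  constructor
  · intro x y h
    refine AdicCompletion.ext fun n => hinj n ?_
    exact congrArg (fun z : AdicCompletion I B => z.val n) h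
  · intro y
    choose z hz using fun n => hsurj n (y.val n)
    refine ⟨⟨z, fun {m n} hmn => ?_⟩, AdicCompletion.ext fun n => hz n⟩
    apply hinj m
    rw [hz m, ← y.property hmn, ← hz n]
    obtain ⟨r, hr⟩ := Submodule.Quotient.mk_surjective _ (z n)
    rw [← hr]
    rfl

/-- The colimit as an algebra over a stage. -/
@[instance_reducible]
def algebraStage (i : Idx R I) : Algebra i.L (Hz R I) := (ι i).toRingHom.toAlgebra

attribute [local instance] algebraStage

instance (i : Idx R I) : IsScalarTower R i.L (Hz R I) :=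
  .of_algebraMap_eq fun r => ((ι i).commutes r).symm

instance faithfullyFlat_stage (i : Idx R I) : Module.FaithfullyFlat i.L (Hz R I) := by
  have : Module.Flat i.L (Hz R I) :=
    Algebra.FormallyUnramified.flat_of_restrictScalars R i.L (Hz R I)
  refine ⟨fun {m} hm h => ?_⟩
  have hle : RingHom.ker i.ε.toRingHom ≤ m :=
    i.ker_le_jacobson.trans (sInf_le ⟨bot_le, hm⟩)
  have h1 : (1 : Hz R I) ∈ m.map (ι i).toRingHom := by
    have : (1 : Hz R I) ∈ m • (⊤ : Submodule i.L (Hz R I)) := by rw [h]; exact Submodule.mem_top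
    rw [Ideal.smul_top_eq_map] at this
    exact this
  have h2 := Ideal.mem_map_of_mem (εH R I).toRingHom h1
  rw [Ideal.map_map, map_one, show (εH R I).toRingHom.comp (ι i).toRingHom = i.ε.toRingHom from rfl,
    Ideal.mem_map_iff_of_surjective _ (fun x => by
      obtain ⟨r, rfl⟩ := Ideal.Quotient.mk_surjective x
      exact ⟨algebraMap R i.L r, i.ε.commutes r⟩)] at h2
  obtain ⟨c, hc, hc1⟩ := h2
  have : c - 1 ∈ m := hle (by
    show i.ε (c - 1) = 0
    rw [map_sub, map_one, sub_eq_zero]; exact hc1)
  exact hm.ne_top ((Ideal.eq_top_iff_one _).2 (by simpa using sub_mem hc this))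

theorem comap_map_ι (i : Idx R I) (J : Ideal i.L) :
    (J.map (ι i).toRingHom).comap (ι i).toRingHom = J :=
  Ideal.comap_map_eq_self_of_faithfullyFlat (B := Hz R I) J

theorem isNoetherianRing_Hz [IsNoetherianRing R] : IsNoetherianRing (Hz R I) := by
  classical
  let M : Ideal (Hz R I) := I.map (algebraMap R (Hz R I))
  haveI : IsNoetherianRing (Hz R I ⧸ M) := by
    let φ : Hz R I ⧸ M →+* R ⧸ I := Ideal.Quotient.lift M (εH R I).toRingHom fun z hz => (mem_map_iff z).1 hz
    have hφ : Function.Bijective φ :=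
      ⟨RingHom.lift_injective_of_ker_le_ideal _ _ (ker_εH).le,
        Ideal.Quotient.lift_surjective_of_surjective _ _ εH_surjective⟩
    exact isNoetherianRing_of_ringEquiv _ (RingEquiv.ofBijective φ hφ).symm
  refine Henselization.isNoetherianRing_of_closed M (Ideal.FG.map (IsNoetherian.noetherian I) _)
    fun J ⟨s, hs⟩ z hz => ?_
  obtain ⟨i, hi⟩ := exists_lift_finset (insert z s)
  obtain ⟨x, rfl⟩ := hi z (Finset.mem_insert_self _ _)
  choose y hy using fun w : (s : Set (Hz R I)) => hi w.1 (Finset.mem_insert_of_mem w.2)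
  have hJ : (Ideal.span (Set.range y)).map (ι i).toRingHom = J := by
    rw [Ideal.map_span, ← Set.range_comp, show J = Ideal.span (s : Set (Hz R I)) from hs.symm]
    congr 1
    exact (congrArg Set.range (funext hy)).trans Subtype.range_coe
  rw [Ideal.mem_iInf] at hz
  haveI : IsNoetherianRing i.L := Algebra.EssFiniteType.isNoetherianRing R i.L
  let N := Ideal.span (Set.range y)
  have hMi : M = (RingHom.ker i.ε.toRingHom).map (ι i).toRingHom := by
    rw [i.ker_eq_map, Ideal.map_map]
    exact congrArg (I.map ·) (RingHom.ext (ι i).commutes).symm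
  have hx : ∀ n, x ∈ N ⊔ RingHom.ker i.ε.toRingHom ^ n := fun n => by
    rw [← comap_map_ι i (N ⊔ _), Ideal.mem_comap, Ideal.map_sup, hJ, Ideal.map_pow, ← hMi]
    exact hz n
  have hxN : x ∈ N := by
    rw [← Ideal.Quotient.eq_zero_iff_mem, ← Ideal.mem_bot]
    have := Ideal.iInf_pow_smul_eq_bot_of_le_jacobson (M := i.L ⧸ N) _ i.ker_le_jacobson
    have hmem : (Ideal.Quotient.mk N x) ∈
        ⨅ n : ℕ, RingHom.ker i.ε.toRingHom ^ n • (⊤ : Submodule i.L (i.L ⧸ N)) := by
      refine (Submodule.mem_iInf _).2 fun n => ?_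
      obtain ⟨a, ha, b, hb, hab⟩ := Submodule.mem_sup.1 (hx n)
      rw [← hab, map_add, Ideal.Quotient.eq_zero_iff_mem.2 ha, zero_add,
        show Ideal.Quotient.mk N b = b • (1 : i.L ⧸ N) by rw [Algebra.smul_def, mul_one]; rfl]
      exact Submodule.smul_mem_smul hb Submodule.mem_top
    rw [this] at hmem
    exact hmem
  rw [← hJ]
  exact Ideal.mem_map_of_mem _ hxN

theorem isNoetherianRing_of_isPairHenselization [IsNoetherianRing R] {B : Type u} [CommRing B]
    [Algebra R B] (hB : Hens2.IsPairHenselization R I B) : IsNoetherianRing B := by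
  obtain ⟨e⟩ := exists_algEquiv hB
  haveI := isNoetherianRing_Hz (R := R) (I := I)
  exact isNoetherianRing_of_ringEquiv _ e.toRingEquiv

end

end Groth.Agent.PairHens
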