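import Groth.Prelude.Def_Hens2
import Mathlib

universe u

open Polynomial

namespace Groth.Agent.PairHens

/-- A filtered colimit (presented by its cocone) of henselian pairs is a henselian pair. -/
theorem henselianRing_colimit {ι : Type u} [Preorder ι] [IsDirectedOrder ι] [Nonempty ι]
    {G : ι → Type u} [∀ i, CommRing (G i)] (t : ∀ i j, i ≤ j → G i →+* G j)
    (I : ∀ i, Ideal (G i)) (hI : ∀ i j (h : i ≤ j), (I i).map (t i j h) ≤ I j)
    (hh : ∀ i, HenselianRing (G i) (I i))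
    {A : Type u} [CommRing A] (π : ∀ i, G i →+* A)
    (htt : ∀ i j k (hij : i ≤ j) (hjk : j ≤ k) (x : G i), t j k hjk (t i j hij x) = t i k (hij.trans hjk) x)
    (hπ : ∀ i j (h : i ≤ j), (π j).comp (t i j h) = π i)
    (hsurj : ∀ a : A, ∃ i x, π i x = a)
    (hinj : ∀ i (x : G i), π i x = 0 → ∃ j h, t i j h x = 0) :
    HenselianRing A (⨆ i, (I i).map (π i)) := by
  classical
  have hπ' : ∀ i j (h : i ≤ j) (x : G i), π j (t i j h x) = π i x := fun i j h x =>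
    RingHom.congr_fun (hπ i j h) x
  have hfin : ∀ s : Finset A, ∃ i, ∀ a ∈ s, ∃ x, π i x = a := fun s => by
    choose idx x hx using hsurj
    obtain ⟨i, hi⟩ := Finset.exists_le (s.image idx)
    exact ⟨i, fun a ha => ⟨t _ _ (hi _ (Finset.mem_image_of_mem _ ha)) (x a), (hπ' _ _ _ _).trans (hx a)⟩⟩
  let M := ⨆ i, (I i).map (π i)
  have hmem : ∀ a ∈ M, ∃ i, ∃ x ∈ I i, π i x = a := by
    intro a ha
    refine Submodule.iSup_induction (fun i => (I i).map (π i))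
      (motive := fun a => ∃ i, ∃ x ∈ I i, π i x = a) ha (fun i y hy => ?_) ?_ ?_
    · induction hy using Submodule.span_induction with
      | mem y hy => obtain ⟨x, hx, rfl⟩ := hy; exact ⟨i, x, hx, rfl⟩
      | zero => exact ⟨i, 0, zero_mem _, map_zero _⟩
      | add u v _ _ hu hv =>
        obtain ⟨i₁, x₁, h₁, rfl⟩ := hu
        obtain ⟨i₂, x₂, h₂, rfl⟩ := hv
        obtain ⟨j, hj₁, hj₂⟩ := exists_ge_ge i₁ i₂
        exact ⟨j, t _ j hj₁ x₁ + t _ j hj₂ x₂, add_mem (hI _ _ hj₁ (Ideal.mem_map_of_mem _ h₁))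
          (hI _ _ hj₂ (Ideal.mem_map_of_mem _ h₂)), by rw [map_add, hπ', hπ']⟩
      | smul c v _ hv =>
        obtain ⟨i₁, x₁, h₁, rfl⟩ := hv
        obtain ⟨i₂, x₂, rfl⟩ := hsurj c
        obtain ⟨j, hj₁, hj₂⟩ := exists_ge_ge i₁ i₂
        exact ⟨j, t _ j hj₂ x₂ * t _ j hj₁ x₁, Ideal.mul_mem_left _ _ (hI _ _ hj₁ (Ideal.mem_map_of_mem _ h₁)),
          by rw [map_mul, hπ', hπ', smul_eq_mul]⟩
    · exact ⟨Classical.arbitrary ι, 0, zero_mem _, map_zero _⟩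
    · rintro _ _ ⟨i₁, x₁, h₁, rfl⟩ ⟨i₂, x₂, h₂, rfl⟩
      obtain ⟨j, hj₁, hj₂⟩ := exists_ge_ge i₁ i₂
      exact ⟨j, t _ j hj₁ x₁ + t _ j hj₂ x₂, add_mem (hI _ _ hj₁ (Ideal.mem_map_of_mem _ h₁))
        (hI _ _ hj₂ (Ideal.mem_map_of_mem _ h₂)), by rw [map_add, hπ', hπ']⟩
  have hback : ∀ i (x : G i), π i x ∈ M → ∃ j h, t i j h x ∈ I j := by
    intro i x hx
    obtain ⟨k, y, hy, he⟩ := hmem _ hx
    obtain ⟨j, hij, hkj⟩ := exists_ge_ge i k
    obtain ⟨l, hjl, hl⟩ := hinj j (t i j hij x - t k j hkj y) (by rw [map_sub, hπ', hπ', he, sub_self])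
    rw [map_sub, sub_eq_zero] at hl
    refine ⟨l, hij.trans hjl, ?_⟩
    rw [← htt i j l hij hjl, hl]
    exact hI _ _ hjl (Ideal.mem_map_of_mem _ (hI _ _ hkj (Ideal.mem_map_of_mem _ hy)))
  refine ⟨fun a ha => ?_, fun f hf a₀ h₁ h₂ => ?_⟩
  · rw [Ideal.mem_jacobson_bot]
    intro b
    obtain ⟨i, x, hx, rfl⟩ := hmem a ha
    obtain ⟨k, y, rfl⟩ := hsurj b
    obtain ⟨j, hij, hkj⟩ := exists_ge_ge i k
    have hu := Ideal.mem_jacobson_bot.1 ((hh j).jac (hI _ _ hij (Ideal.mem_map_of_mem _ hx))) (t k j hkj y)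
    have := hu.map (π j)
    rwa [map_add, map_mul, map_one, hπ', hπ'] at this
  · obtain ⟨i₀, hi₀⟩ := hfin (insert a₀ f.coeffs)
    rcases subsingleton_or_nontrivial A with hA | hA
    · exact ⟨a₀, Subsingleton.elim _ _, by rw [sub_self]; exact zero_mem _⟩
    have hl : f ∈ lifts (π i₀) := by
      rw [lifts_iff_coeff_lifts]
      intro k
      by_cases hk : f.coeff k = 0
      · exact ⟨0, by rw [hk, map_zero]⟩
      · exact hi₀ _ (Finset.mem_insert_of_mem (coeff_mem_coeffs hk))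
    haveI : Nontrivial (G i₀) := (π i₀).domain_nontrivial
    obtain ⟨g, hg, -, hgm⟩ := lifts_and_natDegree_eq_and_monic hl hf
    obtain ⟨x₀, hx₀⟩ := hi₀ a₀ (Finset.mem_insert_self _ _)
    have hev : ∀ (q : (G i₀)[X]) (j) (h : i₀ ≤ j),
        π j ((q.map (t i₀ j h)).eval (t i₀ j h x₀)) = (q.map (π i₀)).eval a₀ := fun q j h => by
      rw [eval_map, eval₂_at_apply, hπ', ← hx₀, eval_map, eval₂_at_apply]
    obtain ⟨j₁, hj₁, hm₁⟩ := hback i₀ (g.eval x₀) (by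
      have := hev g i₀ le_rfl
      rw [hg] at this
      rw [← hπ' i₀ i₀ le_rfl, ← eval₂_at_apply, ← eval_map, this]
      exact h₁)
    obtain ⟨u, hu⟩ := h₂.exists_right_inv
    obtain ⟨b, rfl⟩ := Ideal.Quotient.mk_surjective u
    rw [← map_mul, ← map_one (Ideal.Quotient.mk M), Ideal.Quotient.eq] at hu
    obtain ⟨k, y, hy⟩ := hsurj b
    obtain ⟨j₂, hj₁₂, hk₂⟩ := exists_ge_ge j₁ k
    have hi₂ : i₀ ≤ j₂ := hj₁.trans hj₁₂
    obtain ⟨j₃, hj₃, hm₃⟩ := hback j₂ ((g.map (t i₀ j₂ hi₂)).derivative.eval (t i₀ j₂ hi₂ x₀) * t k j₂ hk₂ y - 1) (by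
      rw [map_sub, map_mul, map_one, derivative_map, hev, hπ', hy, ← derivative_map, hg]
      exact hu)
    -- work at `j₃`
    let σ : G i₀ →+* G j₃ := (t j₂ j₃ hj₃).comp (t i₀ j₂ hi₂)
    have hσ : ∀ z, π j₃ (σ z) = π i₀ z := fun z => (hπ' _ _ _ _).trans (hπ' _ _ _ _)
    obtain ⟨j, hj, hz⟩ := hinj j₃ (σ (g.eval x₀) - t j₁ j₃ (hj₁₂.trans hj₃) (t i₀ j₁ hj₁ (g.eval x₀))) (by
      rw [map_sub, hσ, hπ', hπ', sub_self])
    rw [map_sub, sub_eq_zero] at hz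
    let τ : G i₀ →+* G j := (t j₃ j hj).comp σ
    have hτ : ∀ z, π j (τ z) = π i₀ z := fun z => (hπ' _ _ _ _).trans (hσ z)
    have e₁ : (g.map τ).eval (τ x₀) ∈ I j := by
      rw [eval_map, eval₂_at_apply]
      show t j₃ j hj (σ _) ∈ I j
      rw [hz]
      exact hI _ _ hj (Ideal.mem_map_of_mem _ (hI _ _ _ (Ideal.mem_map_of_mem _ hm₁)))
    have e₂ : IsUnit (Ideal.Quotient.mk (I j) ((g.map τ).derivative.eval (τ x₀))) := by
      refine IsUnit.of_mul_eq_one (Ideal.Quotient.mk (I j) (t j₃ j hj (t j₂ j₃ hj₃ (t k j₂ hk₂ y)))) ?_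
      rw [← map_mul, ← map_one (Ideal.Quotient.mk (I j)), Ideal.Quotient.eq]
      have := hI _ _ hj (Ideal.mem_map_of_mem _ hm₃)
      rw [map_sub (t j₂ j₃ hj₃), map_mul (t j₂ j₃ hj₃), map_one, map_sub (t j₃ j hj), map_mul, map_one,
        derivative_map, eval_map, eval₂_at_apply] at this
      rw [derivative_map, eval_map, eval₂_at_apply]
      exact this
    obtain ⟨r, hr, hr'⟩ := (hh j).is_henselian (g.map τ) (hgm.map _) (τ x₀) e₁ e₂
    refine ⟨π j r, ?_, ?_⟩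
    · have := hr.map (f := π j)
      rwa [Polynomial.map_map, show (π j).comp τ = π i₀ from RingHom.ext hτ, hg] at this
    · rw [← hx₀, ← hτ x₀, ← map_sub]
      exact le_iSup (fun i => (I i).map (π i)) j (Ideal.mem_map_of_mem _ hr')

end Groth.Agent.PairHens
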