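import Mathlib
import Groth.Agent.PairHens.Basic
import Groth.Agent.Hensel.Lift

/-!
Etale neighbourhoods of a pair and the henselization.
-/

universe u

namespace Groth.Agent.PairHens

noncomputable section

variable {R : Type u} [CommRing R] {I : Ideal R}

theorem exists_pointOfBijective {S : Type u} [CommRing S] [Algebra R S]
    (h : Function.Bijective (Ideal.quotientMap (I.map (algebraMap R S)) (algebraMap R S)
      Ideal.le_comap_map)) :
    ∃ σ : S →ₐ[R] R ⧸ I, ∀ x, σ x = 0 → x ∈ I.map (algebraMap R S) := by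
  let f : (R ⧸ I) →ₐ[R] S ⧸ I.map (algebraMap R S) :=
    Ideal.quotientMapₐ _ (Algebra.ofId R S) Ideal.le_comap_map
  let e := AlgEquiv.ofBijective f h
  refine ⟨e.symm.toAlgHom.comp (Ideal.Quotient.mkₐ R _), fun x hx => ?_⟩
  rw [← Ideal.Quotient.eq_zero_iff_mem]
  have hx' : e.symm (Ideal.Quotient.mk (I.map (algebraMap R S)) x) = 0 := hx
  simpa using congrArg e hx'

theorem exists_away {S : Type u} [CommRing S] [Algebra R S] [Algebra.FiniteType R S]
    [Algebra.FormallyUnramified R S] (σ : S →ₐ[R] R ⧸ I) (t : S) (ht : IsUnit (σ t)) :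
    ∃ v : S, IsUnit (σ v) ∧ t ∣ v ∧ Function.Bijective
      (Ideal.quotientMap (I.map (algebraMap R (Localization.Away v)))
        (algebraMap R (Localization.Away v)) Ideal.le_comap_map) := by
  obtain ⟨u, hu, huK⟩ := Hensel.exists_annihilator_ker σ
  have hv : IsUnit (σ (t * u)) := by rw [map_mul, hu, mul_one]; exact ht
  refine ⟨t * u, hv, dvd_mul_right _ _, ?_⟩
  let σ' : Localization.Away (t * u) →ₐ[R] R ⧸ I :=
    IsLocalization.liftAlgHom (M := Submonoid.powers (t * u)) (f := σ) (by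
      rintro ⟨_, n, rfl⟩
      rw [map_pow]; exact hv.pow n)
  have hker : ∀ y, σ' y = 0 → y ∈ I.map (algebraMap R (Localization.Away (t * u))) := by
    intro y hy
    obtain ⟨⟨a, s⟩, h⟩ := IsLocalization.surj (Submonoid.powers (t * u)) y
    have h1 := congrArg σ' h
    rw [map_mul, hy, zero_mul] at h1
    have h2 : σ a = 0 := by
      rw [← show σ' (algebraMap S (Localization.Away (t * u)) a) = σ a from IsLocalization.lift_eq _ a]
      exact h1.symm
    have h3 := Ideal.mem_map_of_mem (algebraMap S (Localization.Away (t * u))) (huK a h2)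
    rw [map_mul, ← h, Ideal.map_map, ← IsScalarTower.algebraMap_eq] at h3
    have hu' : IsUnit (algebraMap S (Localization.Away (t * u)) u) := by
      have := IsLocalization.map_units (Localization.Away (t * u))
        (⟨t * u, 1, pow_one _⟩ : Submonoid.powers (t * u))
      rw [map_mul] at this
      exact isUnit_of_mul_isUnit_right this
    rw [← mul_assoc] at h3
    exact (Ideal.unit_mul_mem_iff_mem _ hu').1
      ((Ideal.mul_unit_mem_iff_mem _ (IsLocalization.map_units _ s)).1 h3)
  constructor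
  · refine Ideal.quotientMap_injective' fun r hr => ?_
    have h1 : σ' (algebraMap R _ r) = 0 := by
      have hle : I.map (algebraMap R (Localization.Away (t * u))) ≤ RingHom.ker σ'.toRingHom := by
        rw [Ideal.map_le_iff_le_comap]
        intro x hx
        show σ' (algebraMap R _ x) = 0
        rw [AlgHom.commutes, Ideal.Quotient.algebraMap_eq]
        exact Ideal.Quotient.eq_zero_iff_mem.2 hx
      exact hle hr
    rw [AlgHom.commutes, Ideal.Quotient.algebraMap_eq] at h1
    exact Ideal.Quotient.eq_zero_iff_mem.1 h1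
  · intro y
    obtain ⟨y, rfl⟩ := Ideal.Quotient.mk_surjective y
    obtain ⟨r, hr⟩ := Ideal.Quotient.mk_surjective (σ' y)
    refine ⟨Ideal.Quotient.mk I r, ?_⟩
    rw [Ideal.quotientMap_mk, Ideal.Quotient.eq]
    refine hker _ ?_
    rw [map_sub, AlgHom.commutes, Ideal.Quotient.algebraMap_eq, hr, sub_self]

theorem exists_idx_equiv (S : Type u) [CommRing S] [Algebra R S] [Algebra.Etale R S]
    (σ : S →ₐ[R] R ⧸ I) : ∃ (j : Idx R I) (e : S ≃ₐ[R] j.S), j.pt.comp e.toAlgHom = σ := by
  classical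
  obtain ⟨n, π, hπ, hker⟩ := (inferInstance : Algebra.FinitePresentation R S).out
  obtain ⟨s, hs⟩ := hker
  let rel : Fin s.card → MvPolynomial (Fin n) R := fun k => (s.equivFin.symm k : MvPolynomial (Fin n) R)
  have hrel : Ideal.span (Set.range rel) = RingHom.ker π := by
    rw [show Set.range rel = (s : Set (MvPolynomial (Fin n) R)) from ?_]
    · exact hs
    ext x
    exact ⟨fun ⟨k, hk⟩ => hk ▸ (s.equivFin.symm k).2, fun hx => ⟨s.equivFin ⟨x, hx⟩, by simp [rel]⟩⟩
  let e₀ : (MvPolynomial (Fin n) R ⧸ Ideal.span (Set.range rel)) ≃ₐ[R] S :=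
    (Ideal.quotientEquivAlgOfEq R hrel).trans (Ideal.quotientKerAlgEquivOfSurjective hπ)
  let j : Idx R I := ⟨n, s.card, rel, σ.comp e₀.toAlgHom, Algebra.Etale.of_equiv e₀.symm⟩
  exact ⟨j, e₀.symm, AlgHom.ext fun x => congrArg σ (e₀.apply_symm_apply x)⟩

variable {B : Type u} [CommRing B] [Algebra R B]

theorem existsUnique_algHom (hB : Hens2.IsPairHenselization R I B) {S : Type u} [CommRing S]
    [Algebra R S] [Algebra.Etale R S] (ε : B →ₐ[R] R ⧸ I)
    (hε : RingHom.ker ε.toRingHom = I.map (algebraMap R B)) (σ : S →ₐ[R] R ⧸ I) :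
    ∃! φ : S →ₐ[R] B, ε.comp φ = σ := by
  obtain ⟨e⟩ := exists_algEquiv hB
  haveI := hB.1
  let q : (B ⧸ I.map (algebraMap R B)) →ₐ[R] R ⧸ I :=
    Ideal.Quotient.liftₐ _ ε fun b hb => by rw [← hε] at hb; exact hb
  have hq : ∀ b, q (Ideal.Quotient.mk _ b) = ε b := fun b => rfl
  let c : R ⧸ I →ₐ[R] B ⧸ I.map (algebraMap R B) :=
    Ideal.quotientMapₐ _ (Algebra.ofId R B) Ideal.le_comap_map
  obtain ⟨φ, hφ⟩ := Hensel.exists_algHom_of_etale (A := B) (I := I.map (algebraMap R B)) (c.comp σ)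
  refine ⟨φ, AlgHom.ext fun x => ?_, fun ψ hψ => ?_⟩
  · show ε (φ x) = σ x
    rw [← hq, show Ideal.Quotient.mk _ (φ x) = c (σ x) from AlgHom.congr_fun hφ x]
    obtain ⟨r, hr⟩ := Ideal.Quotient.mk_surjective (σ x)
    rw [← hr]
    show q (Ideal.Quotient.mk _ (algebraMap R B r)) = _
    rw [hq, ε.commutes]
    rfl
  · refine Hensel.algHom_unique (I := I.map (algebraMap R B)) hB.1.jac fun x => ?_
    rw [← hε]
    show ε (ψ x - φ x) = 0
    rw [map_sub, show ε (ψ x) = σ x from AlgHom.congr_fun hψ x, ← hq,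
      show Ideal.Quotient.mk _ (φ x) = c (σ x) from AlgHom.congr_fun hφ x]
    obtain ⟨r, hr⟩ := Ideal.Quotient.mk_surjective (σ x)
    rw [← hr]
    show _ - q (Ideal.Quotient.mk _ (algebraMap R B r)) = 0
    rw [hq, ε.commutes, Ideal.Quotient.algebraMap_eq, sub_self]

theorem exists_killed {S : Type u} [CommRing S] [Algebra R S] [Algebra.Etale R S]
    (φ : S →ₐ[R] Hz R I) (x : S) (hx : φ x = 0) :
    ∃ t : S, IsUnit (εH R I (φ t)) ∧ t * x = 0 := by
  obtain ⟨j, e, he⟩ := exists_idx_equiv S ((εH R I).comp φ)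
  let ψ : S →ₐ[R] Hz R I := (ι j).comp ((IsScalarTower.toAlgHom R j.S j.L).comp e.toAlgHom)
  have hψ : ψ = φ := by
    refine Hensel.algHom_unique (I := I.map (algebraMap R (Hz R I)))
      (isPairHenselization R I).1.jac fun y => ?_
    rw [mem_map_iff, map_sub, sub_eq_zero]
    show εH R I (ι j (algebraMap j.S j.L (e y))) = εH R I (φ y)
    rw [εH_ι, j.ε_algebraMap]
    exact AlgHom.congr_fun he y
  have hinj : Function.Injective (ι j) := by
    rw [injective_iff_map_eq_zero]
    intro z hz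
    rw [← Ideal.mem_bot (R := j.L), ← comap_map_ι j ⊥, Ideal.map_bot, Ideal.mem_comap, Ideal.mem_bot]
    exact hz
  have h0 : algebraMap j.S j.L (e x) = 0 := by
    refine hinj ?_
    rw [map_zero, ← hx, ← hψ]
    rfl
  obtain ⟨⟨t, ht⟩, htx⟩ := (IsLocalization.map_eq_zero_iff j.T j.L (e x)).1 h0
  refine ⟨e.symm t, ?_, e.injective ?_⟩
  · rw [show εH R I (φ (e.symm t)) = j.pt (e (e.symm t)) from (AlgHom.congr_fun he (e.symm t)).symm,
      e.apply_symm_apply]
    exact ht
  · rw [map_mul, e.apply_symm_apply, map_zero]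
    exact htx

theorem exists_algHom_mem_range (x : Hz R I) :
    ∃ (S : Type u) (_ : CommRing S) (_ : Algebra R S) (_ : Algebra.Etale R S),
      Function.Bijective (Ideal.quotientMap (I.map (algebraMap R S)) (algebraMap R S)
        Ideal.le_comap_map) ∧ ∃ φ : S →ₐ[R] Hz R I, x ∈ Set.range φ := by
  obtain ⟨i, y, rfl⟩ := exists_ι x
  obtain ⟨a, ⟨t, ht⟩, rfl⟩ := IsLocalization.exists_mk'_eq i.T y
  obtain ⟨v, hv, hdvd, hbij⟩ := exists_away i.pt t ht
  let g : Localization.Away v →ₐ[R] i.L :=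
    IsLocalization.liftAlgHom (M := Submonoid.powers v) (f := IsScalarTower.toAlgHom R i.S i.L) (by
      rintro ⟨_, n, rfl⟩
      exact IsLocalization.map_units i.L (⟨v ^ n, by
        show IsUnit (i.pt (v ^ n)); rw [map_pow]; exact hv.pow n⟩ : i.T))
  have : Algebra.Etale R (Localization.Away v) :=
    haveI := Algebra.Etale.of_isLocalizationAway (R := i.S) (A := Localization.Away v) v
    Algebra.Etale.comp R i.S _
  refine ⟨Localization.Away v, inferInstance, inferInstance, this, hbij, (ι i).comp g, ?_⟩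
  obtain ⟨c, hc⟩ := hdvd
  refine ⟨algebraMap i.S _ (a * c) * IsLocalization.Away.invSelf v, congrArg (ι i) ?_⟩
  have hu := IsLocalization.map_units i.L (⟨t, ht⟩ : i.T)
  refine hu.mul_left_injective ?_
  show g _ * algebraMap i.S i.L t = _ * algebraMap i.S i.L t
  have hg : ∀ z, g (algebraMap i.S _ z) = algebraMap i.S i.L z := fun z => IsLocalization.lift_eq _ z
  rw [show IsLocalization.mk' i.L a ⟨t, ht⟩ * algebraMap i.S i.L t = algebraMap i.S i.L a from
    IsLocalization.mk'_spec i.L a ⟨t, ht⟩, ← hg t, ← hg a, ← map_mul]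
  congr 1
  rw [mul_assoc, mul_comm (IsLocalization.Away.invSelf v), ← mul_assoc, ← map_mul,
    show a * c * t = a * v by rw [hc]; ring, map_mul, mul_assoc, IsLocalization.Away.mul_invSelf,
    mul_one]

end

end Groth.Agent.PairHens
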