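import Mathlib
import Groth.Agent.PairHens.Nbhd
import Groth.Agent.PairHens.Colimit

/-!
Henselian finitely presented algebras.
-/

universe u

open scoped TensorProduct

namespace Groth.Agent.PairHens

noncomputable section

variable {R : Type u} [CommRing R] {I : Ideal R} {B : Type u} [CommRing B] [Algebra R B]

/-- Uniqueness of extensions to a henselization. -/
theorem ext_hom (hB : Hens2.IsPairHenselization R I B) {D : Type u} [CommRing D] (J : Ideal D)
    [HenselianRing D J] {g₁ g₂ : B →+* D}
    (h : g₁.comp (algebraMap R B) = g₂.comp (algebraMap R B))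
    (hI : I.map (g₁.comp (algebraMap R B)) ≤ J) : g₁ = g₂ :=
  (hB.2 D J _ inferInstance hI).unique rfl h.symm

theorem exists_sub_mem_of_bijective {S : Type u} [CommRing S] [Algebra R S]
    (h : Function.Bijective (Ideal.quotientMap (I.map (algebraMap R S)) (algebraMap R S)
      Ideal.le_comap_map)) (x : S) : ∃ r : R, x - algebraMap R S r ∈ I.map (algebraMap R S) := by
  obtain ⟨r, hr⟩ := h.2 (Ideal.Quotient.mk _ x)
  obtain ⟨r, rfl⟩ := Ideal.Quotient.mk_surjective r
  rw [Ideal.quotientMap_mk, Ideal.Quotient.eq] at hr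
  exact ⟨r, by rw [← neg_sub]; exact neg_mem hr⟩

/-- A henselization is a henselization of each of its etale neighbourhoods. -/
theorem isPairHenselization_nbhd (hB : Hens2.IsPairHenselization R I B) {S : Type u} [CommRing S]
    [Algebra R S] [Algebra.Etale R S]
    (hS : Function.Bijective (Ideal.quotientMap (I.map (algebraMap R S)) (algebraMap R S)
      Ideal.le_comap_map))
    [Algebra S B] [IsScalarTower R S B] :
    Hens2.IsPairHenselization S (I.map (algebraMap R S)) B := by
  refine ⟨?_, fun D _ J f hD hf => ?_⟩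
  · rw [Ideal.map_map, ← IsScalarTower.algebraMap_eq]; exact hB.1
  have hfR : I.map (f.comp (algebraMap R S)) ≤ J := by rw [← Ideal.map_map]; exact hf
  obtain ⟨g, hg, hu⟩ := hB.2 D J (f.comp (algebraMap R S)) hD hfR
  refine ⟨g, ?_, fun g' hg' => hu g' ?_⟩
  · show g.comp (algebraMap S B) = f
    let _ : Algebra R D := (f.comp (algebraMap R S)).toAlgebra
    let F₁ : S →ₐ[R] D := { toRingHom := f, commutes' := fun _ => rfl }
    let F₂ : S →ₐ[R] D :=
      { toRingHom := g.comp (algebraMap S B)
        commutes' := fun r => by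
          show g (algebraMap S B (algebraMap R S r)) = _
          rw [← IsScalarTower.algebraMap_apply]
          exact RingHom.congr_fun hg r }
    have : F₂ = F₁ := by
      refine Hensel.algHom_unique (I := J) hD.jac fun x => ?_
      obtain ⟨r, hr⟩ := exists_sub_mem_of_bijective hS x
      have h1 : ∀ F : S →ₐ[R] D, F (x - algebraMap R S r) ∈ J := fun F => by
        have := Ideal.mem_map_of_mem F.toRingHom hr
        rw [Ideal.map_map, show F.toRingHom.comp (algebraMap R S) = f.comp (algebraMap R S) from RingHom.ext F.commutes] at this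
        exact hfR this
      simpa using sub_mem (h1 F₂) (h1 F₁)
    exact RingHom.ext fun x => AlgHom.congr_fun this x
  · show g'.comp (algebraMap R B) = f.comp (algebraMap R S)
    rw [← hg', RingHom.comp_assoc, ← IsScalarTower.algebraMap_eq]

/-- Finitely many elements of a henselization come from one etale neighbourhood. -/
theorem exists_nbhd_finset (hB : Hens2.IsPairHenselization R I B) (s : Finset B) :
    ∃ (S : Type u) (_ : CommRing S) (_ : Algebra R S) (_ : Algebra.Etale R S),
      Function.Bijective (Ideal.quotientMap (I.map (algebraMap R S)) (algebraMap R S)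
        Ideal.le_comap_map) ∧ ∃ φ : S →ₐ[R] B, (s : Set B) ⊆ Set.range φ := by
  classical
  obtain ⟨e⟩ := exists_algEquiv hB
  induction s using Finset.induction with
  | empty =>
    refine ⟨R, inferInstance, inferInstance, inferInstance, ?_, Algebra.ofId R B, by simp⟩
    constructor
    · refine Ideal.quotientMap_injective' fun r hr => ?_
      simpa using hr
    · intro y
      obtain ⟨y, rfl⟩ := Ideal.Quotient.mk_surjective y
      exact ⟨Ideal.Quotient.mk I y, by simp⟩
  | insert a s _ ih =>
    obtain ⟨S, _, _, _, hS, φ, hφ⟩ := ih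
    obtain ⟨S', _, _, _, hS', ψ, hψ⟩ := exists_algHom_mem_range (e.symm a)
    let T := S ⊗[R] S'
    haveI : Algebra.Etale R T := Algebra.Etale.comp R S T
    let χ : T →ₐ[R] B := Algebra.TensorProduct.lift φ (e.toAlgHom.comp ψ) fun _ _ => Commute.all _ _
    obtain ⟨ε, hε, -⟩ := exists_point hB
    obtain ⟨v, hv, -, hbij⟩ := exists_away (ε.comp χ) 1 (by rw [map_one]; exact isUnit_one)
    have hunit : IsUnit (χ v) := by
      obtain ⟨_, h⟩ := exists_point hB
      haveI := hB.1
      refine Hensel.isUnit_of_quotient hB.1.jac ?_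
      obtain ⟨w, hw⟩ := hv.exists_right_inv
      obtain ⟨w, rfl⟩ := Ideal.Quotient.mk_surjective w
      refine .of_mul_eq_one (Ideal.Quotient.mk _ (algebraMap R B w)) ?_
      rw [← map_mul, ← map_one (Ideal.Quotient.mk (I.map (algebraMap R B))), Ideal.Quotient.eq, ← hε]
      show ε (χ v * algebraMap R B w - 1) = 0
      rw [map_sub, map_mul, map_one, ε.commutes, sub_eq_zero]
      exact hw
    let χ' : Localization.Away v →ₐ[R] B :=
      IsLocalization.liftAlgHom (M := Submonoid.powers v) (f := χ) (by
        rintro ⟨_, n, rfl⟩; rw [map_pow]; exact hunit.pow n)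
    have hχ : ∀ x, χ' (algebraMap T _ x) = χ x := fun x => IsLocalization.lift_eq _ x
    have : Algebra.Etale R (Localization.Away v) :=
      haveI := Algebra.Etale.of_isLocalizationAway (R := T) (A := Localization.Away v) v
      Algebra.Etale.comp R T _
    refine ⟨Localization.Away v, inferInstance, inferInstance, this, hbij, χ', ?_⟩
    rw [Finset.coe_insert, Set.insert_subset_iff]
    refine ⟨?_, fun z hz => ?_⟩
    · obtain ⟨y, hy⟩ := hψ
      exact ⟨algebraMap T _ (1 ⊗ₜ y), by rw [hχ]; show φ 1 * e (ψ y) = a; rw [map_one, one_mul, hy, e.apply_symm_apply]⟩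
    · obtain ⟨y, rfl⟩ := hφ hz
      exact ⟨algebraMap T _ (y ⊗ₜ 1), by rw [hχ]; show φ y * e (ψ 1) = φ y; rw [map_one, map_one, mul_one]⟩

end

end Groth.Agent.PairHens
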