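import Groth.Agent.Hensel.Lift
import Groth.Prelude.Def_Hens2
import Mathlib.Algebra.Colimit.DirectLimit
import Mathlib.RingTheory.Etale.StandardEtale
import Mathlib.RingTheory.Flat.EquationalCriterion
import Mathlib.RingTheory.Flat.Localization
import Mathlib.RingTheory.Smooth.Flat

/-!
Henselization of a pair `(R, I)`: the colimit of étale `R`-algebras with a point in `R ⧸ I`,
localized at the elements which are invertible at the point.
-/

namespace Groth.Agent.PairHens

universe u

open Polynomial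

noncomputable section

variable (R : Type u) [CommRing R] (I : Ideal R)

/-- A presented étale algebra with a point in `R ⧸ I`. -/
structure Idx where
  n : ℕ
  m : ℕ
  rel : Fin m → MvPolynomial (Fin n) R
  σ : (MvPolynomial (Fin n) R ⧸ Ideal.span (Set.range rel)) →ₐ[R] R ⧸ I
  etale : Algebra.Etale R (MvPolynomial (Fin n) R ⧸ Ideal.span (Set.range rel))

variable {R I}

/-- The algebra. -/
def Idx.S (i : Idx R I) : Type u := MvPolynomial (Fin i.n) R ⧸ Ideal.span (Set.range i.rel)

instance (i : Idx R I) : CommRing i.S :=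
  inferInstanceAs (CommRing (MvPolynomial (Fin i.n) R ⧸ Ideal.span (Set.range i.rel)))

instance (i : Idx R I) : Algebra R i.S :=
  inferInstanceAs (Algebra R (MvPolynomial (Fin i.n) R ⧸ Ideal.span (Set.range i.rel)))

instance (i : Idx R I) : Algebra.Etale R i.S := i.etale

/-- The point. -/
def Idx.pt (i : Idx R I) : i.S →ₐ[R] R ⧸ I := i.σ

/-- Elements invertible at the point. -/
abbrev Idx.T (i : Idx R I) : Submonoid i.S :=
  (IsUnit.submonoid (R ⧸ I)).comap i.pt.toRingHom.toMonoidHom

/-- The localized stage. -/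
def Idx.L (i : Idx R I) : Type u := Localization i.T

instance (i : Idx R I) : CommRing i.L := inferInstanceAs (CommRing (Localization i.T))

instance (i : Idx R I) : Algebra i.S i.L := inferInstanceAs (Algebra i.S (Localization i.T))

instance (i : Idx R I) : Algebra R i.L := inferInstanceAs (Algebra R (Localization i.T))

instance (i : Idx R I) : IsScalarTower R i.S i.L :=
  inferInstanceAs (IsScalarTower R i.S (Localization i.T))

instance (i : Idx R I) : IsLocalization i.T i.L :=
  inferInstanceAs (IsLocalization i.T (Localization i.T))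

instance (i : Idx R I) : Algebra.EssFiniteType R i.L :=
  have : Algebra.EssFiniteType i.S i.L := .of_isLocalization i.L i.T
  Algebra.EssFiniteType.comp R i.S i.L

instance (i : Idx R I) : Algebra.FormallyEtale R i.L :=
  have : Algebra.FormallyEtale i.S i.L := Algebra.FormallyEtale.of_isLocalization i.T
  Algebra.FormallyEtale.comp R i.S i.L

theorem Idx.flat (i : Idx R I) : Module.Flat R i.L :=
  have : Module.Flat i.S i.L := IsLocalization.flat i.L i.T
  Module.Flat.trans R i.S i.L

/-- The point of the localized stage. -/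
def Idx.ε (i : Idx R I) : i.L →ₐ[R] R ⧸ I :=
  IsLocalization.liftAlgHom (M := i.T) (f := i.pt) fun s => s.2

theorem Idx.ε_algebraMap (i : Idx R I) (a : i.S) : i.ε (algebraMap i.S i.L a) = i.pt a :=
  IsLocalization.lift_eq _ _

theorem Idx.isUnit_iff (i : Idx R I) (x : i.L) : IsUnit x ↔ IsUnit (i.ε x) := by
  refine ⟨fun h => h.map i.ε, fun hx => ?_⟩
  obtain ⟨⟨a, s⟩, h⟩ := IsLocalization.surj i.T x
  have h1 := congrArg i.ε h
  rw [map_mul, i.ε_algebraMap, i.ε_algebraMap] at h1
  have ha : a ∈ i.T := by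
    show IsUnit (i.pt a)
    rw [← h1]; exact hx.mul s.2
  have := IsLocalization.map_units i.L (⟨a, ha⟩ : i.T)
  rw [← h] at this
  exact isUnit_of_mul_isUnit_left this

theorem Idx.ker_le_jacobson (i : Idx R I) : RingHom.ker i.ε.toRingHom ≤ Ideal.jacobson ⊥ := by
  intro x hx
  rw [Ideal.mem_jacobson_bot]
  intro y
  rw [i.isUnit_iff, map_add, map_mul, show i.ε x = 0 from hx, zero_mul, zero_add, map_one]
  exact isUnit_one

theorem Idx.ker_eq_map (i : Idx R I) : RingHom.ker i.ε.toRingHom = I.map (algebraMap R i.L) := by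
  refine le_antisymm (fun x hx => ?_) (Ideal.map_le_iff_le_comap.2 fun r hr => ?_)
  · obtain ⟨⟨a, s⟩, h⟩ := IsLocalization.surj i.T x
    have h1 := congrArg i.ε h
    rw [map_mul, i.ε_algebraMap, i.ε_algebraMap, show i.ε x = 0 from hx, zero_mul] at h1
    obtain ⟨u, hu, huK⟩ := Hensel.exists_annihilator_ker (A := R) (I := I) i.pt
    have hua := Ideal.mem_map_of_mem (algebraMap i.S i.L) (huK a h1.symm)
    rw [map_mul, ← h, Ideal.map_map, ← IsScalarTower.algebraMap_eq] at hua
    have hu' : IsUnit (algebraMap i.S i.L u) :=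
      IsLocalization.map_units i.L (⟨u, show IsUnit (i.pt u) by rw [hu]; exact isUnit_one⟩ : i.T)
    have hs : IsUnit (algebraMap i.S i.L s) := IsLocalization.map_units i.L s
    rw [← mul_assoc] at hua
    exact (Ideal.unit_mul_mem_iff_mem _ hu').1 ((Ideal.mul_unit_mem_iff_mem _ hs).1 hua)
  · show i.ε (algebraMap R i.L r) = 0
    rw [AlgHom.commutes, Ideal.Quotient.algebraMap_eq, Ideal.Quotient.eq_zero_iff_mem]
    exact hr

theorem hom_ext_of_etale {S : Type u} [CommRing S] [Algebra R S] [Algebra.Etale R S] (j : Idx R I)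
    {f g : S →ₐ[R] j.L} (h : j.ε.comp f = j.ε.comp g) : f = g :=
  Hensel.algHom_unique (A := j.L) (I := RingHom.ker j.ε.toRingHom) (f := f) (g := g)
    j.ker_le_jacobson fun x => by
      show j.ε (f x - g x) = 0
      rw [map_sub]
      exact sub_eq_zero.2 (AlgHom.congr_fun h x)

theorem exists_idx (S : Type u) [CommRing S] [Algebra R S] [Algebra.Etale R S] (σ : S →ₐ[R] R ⧸ I) :
    ∃ (j : Idx R I) (e : S →ₐ[R] j.L), j.ε.comp e = σ := by
  classical
  obtain ⟨n, π, hπ, hker⟩ := (inferInstance : Algebra.FinitePresentation R S).out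
  obtain ⟨s, hs⟩ := hker
  let rel : Fin s.card → MvPolynomial (Fin n) R := fun k => (s.equivFin.symm k : MvPolynomial (Fin n) R)
  have hrel : Ideal.span (Set.range rel) = RingHom.ker π := by
    rw [show Set.range rel = (s : Set (MvPolynomial (Fin n) R)) from ?_]
    · exact hs
    ext x
    exact ⟨fun ⟨k, hk⟩ => hk ▸ (s.equivFin.symm k).2, fun hx => ⟨s.equivFin ⟨x, hx⟩, by simp [rel]⟩⟩
  let e₀ : (MvPolynomial (Fin n) R ⧸ Ideal.span (Set.range rel)) ≃ₐ[R] S :=
    (Ideal.quotientEquivAlgOfEq R hrel).trans (Ideal.quotientKerAlgEquivOfSurjective hπ)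
  let j : Idx R I := ⟨n, s.card, rel, σ.comp e₀.toAlgHom, Algebra.Etale.of_equiv e₀.symm⟩
  refine ⟨j, (IsScalarTower.toAlgHom R j.S j.L).comp e₀.symm.toAlgHom, AlgHom.ext fun x => ?_⟩
  show j.ε (algebraMap j.S j.L (e₀.symm x)) = σ x
  rw [j.ε_algebraMap]
  show σ (e₀ (e₀.symm x)) = σ x
  rw [e₀.apply_symm_apply]

instance : Preorder (Idx R I) where
  le i j := ∃ f : i.L →ₐ[R] j.L, j.ε.comp f = i.ε
  le_refl i := ⟨AlgHom.id R _, rfl⟩
  le_trans i j k := fun ⟨f, hf⟩ ⟨g, hg⟩ => ⟨g.comp f, by rw [← AlgHom.comp_assoc, hg, hf]⟩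

theorem le_of_hom {i j : Idx R I} (f : i.S →ₐ[R] j.L) (hf : j.ε.comp f = i.pt) : i ≤ j := by
  refine ⟨IsLocalization.liftAlgHom (M := i.T) (f := f) fun s => ?_, ?_⟩
  · rw [j.isUnit_iff]
    exact (AlgHom.congr_fun hf s).symm ▸ s.2
  · refine IsLocalization.algHom_ext i.T (AlgHom.ext fun x => ?_)
    show j.ε (IsLocalization.lift _ (algebraMap i.S i.L x)) = i.ε (algebraMap i.S i.L x)
    rw [IsLocalization.lift_eq, i.ε_algebraMap]
    exact AlgHom.congr_fun hf x

instance : Nonempty (Idx R I) := ⟨(exists_idx R (Algebra.ofId R (R ⧸ I))).choose⟩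

instance : IsDirectedOrder (Idx R I) := by
  refine ⟨fun i j => ?_⟩
  have : Algebra.Etale R (TensorProduct R i.S j.S) := Algebra.Etale.comp R i.S _
  obtain ⟨k, e, he⟩ := exists_idx (TensorProduct R i.S j.S)
    (Algebra.TensorProduct.lift i.pt j.pt fun _ _ => Commute.all _ _)
  refine ⟨k, le_of_hom (e.comp Algebra.TensorProduct.includeLeft) ?_,
    le_of_hom (e.comp Algebra.TensorProduct.includeRight) ?_⟩
  all_goals rw [← AlgHom.comp_assoc, he]; ext x; simp

/-- Transition maps. -/
def tr (i j : Idx R I) (h : i ≤ j) : i.L →ₐ[R] j.L := h.choose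

theorem ε_tr (i j : Idx R I) (h : i ≤ j) : j.ε.comp (tr i j h) = i.ε := h.choose_spec

theorem tr_eq {i j : Idx R I} (h : i ≤ j) (f : i.L →ₐ[R] j.L) (hf : j.ε.comp f = i.ε) :
    f = tr i j h := by
  refine IsLocalization.algHom_ext i.T ?_
  refine hom_ext_of_etale j (AlgHom.ext fun x => ?_)
  exact (AlgHom.congr_fun hf (algebraMap i.S i.L x)).trans
    (AlgHom.congr_fun (ε_tr i j h) (algebraMap i.S i.L x)).symm

instance : DirectedSystem (fun i : Idx R I => i.L) (fun i j h => ⇑(tr i j h)) where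
  map_self i x := by rw [← tr_eq le_rfl (AlgHom.id R _) rfl]; rfl
  map_map k j i hij hjk x := by
    rw [← tr_eq (hij.trans hjk) ((tr j k hjk).comp (tr i j hij))
      (by rw [← AlgHom.comp_assoc, ε_tr, ε_tr])]
    rfl

variable (R I)

/-- The henselization of the pair. -/
def Hz : Type u := DirectLimit (fun i : Idx R I => i.L) tr

instance : CommRing (Hz R I) :=
  inferInstanceAs (CommRing (DirectLimit (fun i : Idx R I => i.L) tr))

instance : Algebra R (Hz R I) :=
  inferInstanceAs (Algebra R (DirectLimit (fun i : Idx R I => i.L) tr))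

variable {R I}

/-- The maps from the stages. -/
def ι (i : Idx R I) : i.L →ₐ[R] Hz R I := DirectLimit.Algebra.of _ _ i

theorem ι_tr (i j : Idx R I) (h : i ≤ j) (x : i.L) : ι j (tr i j h x) = ι i x :=
  Quotient.sound ⟨j, le_rfl, h, DirectedSystem.map_self' _ _⟩

variable (R I) in
/-- The point of the colimit. -/
def εH : Hz R I →ₐ[R] R ⧸ I :=
  DirectLimit.Algebra.lift _ _ (R ⧸ I) (fun i : Idx R I => i.ε) fun i j h x =>
    AlgHom.congr_fun (ε_tr i j h) x

theorem εH_ι (i : Idx R I) (x : i.L) : εH R I (ι i x) = i.ε x := rfl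

theorem exists_ι (z : Hz R I) : ∃ i x, ι i x = z := by
  obtain ⟨i, x, rfl⟩ := DirectLimit.exists_eq_mk _ z
  exact ⟨i, x, rfl⟩

theorem exists_lift_finset (s : Finset (Hz R I)) :
    ∃ i : Idx R I, ∀ z ∈ s, ∃ x, ι i x = z := by
  classical
  choose idx x hx using fun z : Hz R I => exists_ι z
  obtain ⟨i, hi⟩ := Finset.exists_le (s.image idx)
  exact ⟨i, fun z hz => ⟨tr _ _ (hi _ (Finset.mem_image_of_mem _ hz)) (x z),
    (ι_tr _ _ _ _).trans (hx z)⟩⟩

theorem exists_lift_zero {i : Idx R I} {x : i.L} (h : ι i x = 0) :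
    ∃ j, ∃ hij : i ≤ j, tr i j hij x = 0 := by
  rw [← map_zero (ι i)] at h
  obtain ⟨j, hij, _, hj⟩ := Quotient.exact h
  exact ⟨j, hij, hj.trans (map_zero _)⟩

theorem isUnit_iff (z : Hz R I) : IsUnit z ↔ IsUnit (εH R I z) := by
  refine ⟨fun h => h.map (εH R I), fun h => ?_⟩
  obtain ⟨i, x, rfl⟩ := exists_ι z
  exact ((i.isUnit_iff x).2 h).map (ι i)

theorem εH_surjective : Function.Surjective (εH R I) := fun x => by
  obtain ⟨r, rfl⟩ := Ideal.Quotient.mk_surjective x
  exact ⟨algebraMap R _ r, (εH R I).commutes r⟩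

theorem ker_εH : RingHom.ker (εH R I).toRingHom = I.map (algebraMap R (Hz R I)) := by
  refine le_antisymm (fun z hz => ?_) (Ideal.map_le_iff_le_comap.2 fun r hr => ?_)
  · obtain ⟨i, x, rfl⟩ := exists_ι z
    have hx : x ∈ RingHom.ker i.ε.toRingHom := hz
    rw [i.ker_eq_map] at hx
    have := Ideal.mem_map_of_mem (ι i).toRingHom hx
    rwa [Ideal.map_map, show (ι i).toRingHom.comp (algebraMap R i.L) = algebraMap R (Hz R I) from
      RingHom.ext (ι i).commutes] at this
  · show εH R I (algebraMap R _ r) = 0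
    rw [AlgHom.commutes, Ideal.Quotient.algebraMap_eq, Ideal.Quotient.eq_zero_iff_mem]
    exact hr

theorem mem_map_iff (z : Hz R I) : z ∈ I.map (algebraMap R (Hz R I)) ↔ εH R I z = 0 := by
  rw [← ker_εH]; rfl

theorem exists_lift_poly (f : (Hz R I)[X]) (hf : f.Monic) :
    ∃ (i : Idx R I) (g : i.L[X]), g.Monic ∧ g.map (ι i).toRingHom = f := by
  classical
  choose idx x hx using fun k => exists_ι (f.coeff k)
  obtain ⟨i, hi⟩ := Finset.exists_le (f.support.image idx)
  have hl : f ∈ lifts (ι i).toRingHom := by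
    rw [lifts_iff_coeff_lifts]
    intro k
    by_cases hk : k ∈ f.support
    · exact ⟨tr _ _ (hi _ (Finset.mem_image_of_mem _ hk)) (x k), (ι_tr _ _ _ _).trans (hx k)⟩
    · exact ⟨0, by rw [notMem_support_iff.1 hk]; exact map_zero _⟩
  rcases subsingleton_or_nontrivial (Hz R I) with hH | hH
  · exact ⟨i, 1, monic_one, Subsingleton.elim _ _⟩
  obtain ⟨g, hg, -, hgm⟩ := lifts_and_natDegree_eq_and_monic hl hf
  exact ⟨i, g, hgm, hg⟩

instance henselian : HenselianRing (Hz R I) (I.map (algebraMap R (Hz R I))) where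
  jac := fun z hz => by
    rw [Ideal.mem_jacobson_bot]
    intro y
    rw [isUnit_iff, map_add, map_mul, (mem_map_iff z).1 hz, zero_mul, zero_add, map_one]
    exact isUnit_one
  is_henselian := by
    intro f hf a₀ h₁ h₂
    classical
    obtain ⟨i, fL, hfL, hmapL⟩ := exists_lift_poly f hf
    obtain ⟨s, hs⟩ := IsLocalization.exist_integer_multiples_of_finset i.T fL.coeffs
    let A₁ := Localization.Away (s : i.S)
    have hsu : IsUnit (algebraMap i.S i.L s) := IsLocalization.map_units i.L s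
    let φ : A₁ →ₐ[R] i.L := IsLocalization.liftAlgHom (M := Submonoid.powers (s : i.S))
      (f := IsScalarTower.toAlgHom R i.S i.L) (fun ⟨_, k, hk⟩ => by
        subst hk
        simpa using hsu.pow k)
    have hφ : ∀ b, φ (algebraMap i.S A₁ b) = algebraMap i.S i.L b := fun b =>
      IsLocalization.lift_eq _ _
    have hlift : fL ∈ lifts φ.toRingHom := by
      rw [lifts_iff_coeff_lifts]
      intro k
      by_cases hk : fL.coeff k = 0
      · exact ⟨0, by rw [hk]; exact map_zero _⟩
      obtain ⟨b, hb⟩ := hs _ (coeff_mem_coeffs hk)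
      refine ⟨algebraMap i.S A₁ b * IsLocalization.Away.invSelf (s : i.S), hsu.mul_left_cancel ?_⟩
      show algebraMap i.S i.L s * φ _ = _
      rw [← hφ s, ← map_mul, mul_left_comm, IsLocalization.Away.mul_invSelf, mul_one, hφ, hb,
        Algebra.smul_def, hφ]
    rcases subsingleton_or_nontrivial (Hz R I) with hH | hH
    · exact ⟨a₀, Subsingleton.elim _ _, by rw [sub_self]; exact zero_mem _⟩
    haveI : Nontrivial i.L := (ι i).toRingHom.domain_nontrivial
    obtain ⟨fA, hfA, -, hfAm⟩ := lifts_and_natDegree_eq_and_monic hlift hfL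
    let σ₁ : A₁ →ₐ[R] R ⧸ I := i.ε.comp φ
    have hfK : f.map (εH R I).toRingHom = fA.map σ₁.toRingHom := by
      rw [← hmapL, ← hfA, Polynomial.map_map, Polynomial.map_map]
      rfl
    let P : StandardEtalePair A₁ := ⟨fA, hfAm, derivative fA, ⟨1, 0, 1, by simp⟩⟩
    have : Algebra.Etale R A₁ := inferInstance
    let _ : Algebra R P.Ring := ((algebraMap A₁ P.Ring).comp (algebraMap R A₁)).toAlgebra
    have : IsScalarTower R A₁ P.Ring := .of_algebraMap_eq fun _ => rfl
    have : Algebra.Etale R P.Ring := Algebra.Etale.comp R A₁ _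
    let _ : Algebra A₁ (R ⧸ I) := σ₁.toRingHom.toAlgebra
    have : IsScalarTower R A₁ (R ⧸ I) := .of_algebraMap_eq fun r => (σ₁.commutes r).symm
    have haev : ∀ p : A₁[X], aeval (εH R I a₀) p = (p.map σ₁.toRingHom).eval (εH R I a₀) :=
      fun p => (eval_map _ _).symm
    have hmap : P.HasMap (εH R I a₀) := by
      refine ⟨?_, ?_⟩
      · show aeval _ fA = 0
        rw [haev, ← hfK, eval_map]
        exact (eval₂_at_apply _ _).trans ((mem_map_iff _).1 h₁)
      · show IsUnit (aeval _ (derivative fA))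
        rw [haev, ← derivative_map, ← hfK, derivative_map, eval_map]
        rw [show eval₂ (εH R I).toRingHom (εH R I a₀) (derivative f) =
          εH R I ((derivative f).eval a₀) from eval₂_at_apply _ _]
        exact h₂.map (Ideal.Quotient.lift _ (εH R I).toRingHom fun z hz => (mem_map_iff z).1 hz)
    obtain ⟨j, e, he⟩ := exists_idx P.Ring ((P.lift _ hmap).restrictScalars R)
    let ψ : A₁ →ₐ[R] j.L := e.comp (IsScalarTower.toAlgHom R A₁ P.Ring)
    have hψ : j.ε.comp ψ = σ₁ := AlgHom.ext fun a => by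
      show j.ε (e (algebraMap A₁ P.Ring a)) = _
      rw [← AlgHom.comp_apply, he]
      exact (P.lift _ hmap).commutes a
    have hij : i ≤ j := le_of_hom (ψ.comp (IsScalarTower.toAlgHom R i.S A₁)) (AlgHom.ext fun x => by
      rw [← AlgHom.comp_assoc, hψ]
      show i.ε (φ (algebraMap i.S A₁ x)) = i.pt x
      rw [hφ, i.ε_algebraMap])
    have hcomp : (tr i j hij).comp φ = ψ := hom_ext_of_etale j (by
      rw [← AlgHom.comp_assoc, ε_tr, hψ])
    have hf' : f = fA.map ((ι j).comp ψ).toRingHom := by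
      rw [← hmapL, ← hfA, Polynomial.map_map, ← hcomp]
      congr 1
      exact RingHom.ext fun a => (ι_tr i j hij _).symm
    let _ : Algebra A₁ (Hz R I) := ((ι j).comp ψ).toRingHom.toAlgebra
    let τ : P.Ring →ₐ[A₁] Hz R I :=
      { toRingHom := ((ι j).comp e).toRingHom, commutes' := fun a => rfl }
    refine ⟨τ P.X, ?_, ?_⟩
    · have h3 : aeval (τ P.X) fA = 0 := by
        rw [aeval_algHom_apply, show aeval P.X fA = 0 from P.hasMap_X.1, map_zero]
      rw [IsRoot, hf', eval_map]
      exact h3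
    · rw [mem_map_iff, map_sub, sub_eq_zero]
      show εH R I (ι j (e P.X)) = _
      rw [εH_ι, ← AlgHom.comp_apply, he]
      exact P.lift_X _ hmap

instance flat : Module.Flat R (Hz R I) := by
  classical
  refine Module.Flat.of_forall_isTrivialRelation (R := R) (M := Hz R I) fun {l f x} h => ?_
  obtain ⟨i, hi⟩ := exists_lift_finset (Finset.univ.image x)
  choose y hy using fun k => hi (x k) (Finset.mem_image_of_mem x (Finset.mem_univ k))
  have h' : ι i (∑ k, f k • y k) = 0 := by simpa [map_sum, hy] using h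
  obtain ⟨j, hij, hj⟩ := exists_lift_zero h'
  rw [map_sum] at hj
  simp only [map_smul] at hj
  have := Idx.flat j
  obtain ⟨k, a, z, hz, ha⟩ := Module.Flat.isTrivialRelation_of_sum_smul_eq_zero (R := R) (M := j.L) (f := f)
    (x := fun c => tr i j hij (y c)) hj
  refine ⟨k, a, fun c => ι j (z c), fun c => ?_, ha⟩
  rw [← hy c, ← ι_tr i j hij, show tr i j hij (y c) = ∑ d, a c d • z d from hz c, map_sum]
  exact Finset.sum_congr rfl fun d _ => map_smul (ι j).toLinearMap (a c d) (z d)

theorem hom_ext {C : Type u} [CommRing C] {J : Ideal C} [HenselianRing C J] {g₁ g₂ : Hz R I →+* C}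
    (hf : g₁.comp (algebraMap R _) = g₂.comp (algebraMap R _))
    (hI : I.map (g₁.comp (algebraMap R _)) ≤ J) : g₁ = g₂ := by
  let _ : Algebra R C := (g₁.comp (algebraMap R _)).toAlgebra
  let G₁ : Hz R I →ₐ[R] C := { toRingHom := g₁, commutes' := fun _ => rfl }
  let G₂ : Hz R I →ₐ[R] C := { toRingHom := g₂, commutes' := fun r => (RingHom.congr_fun hf r).symm }
  refine RingHom.ext fun z => ?_
  obtain ⟨i, x, rfl⟩ := exists_ι z
  suffices G₁.comp (ι i) = G₂.comp (ι i) from AlgHom.congr_fun this x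
  refine IsLocalization.algHom_ext i.T (Hensel.algHom_unique (A := C) (I := J) HenselianRing.jac fun a => ?_)
  obtain ⟨r, hr⟩ := Ideal.Quotient.mk_surjective (i.pt a)
  have hz : ι i (algebraMap i.S i.L a) - algebraMap R _ r ∈ I.map (algebraMap R (Hz R I)) := by
    rw [mem_map_iff, map_sub, εH_ι, i.ε_algebraMap, AlgHom.commutes, Ideal.Quotient.algebraMap_eq, hr,
      sub_self]
  have h1 := Ideal.mem_map_of_mem g₁ hz
  have h2 := Ideal.mem_map_of_mem g₂ hz
  rw [Ideal.map_map, map_sub] at h1 h2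
  rw [← hf] at h2
  have := sub_mem (hI h1) (hI h2)
  rw [show g₂ (algebraMap R _ r) = g₁ (algebraMap R _ r) from (RingHom.congr_fun hf r).symm,
    sub_sub_sub_cancel_right] at this
  exact this

variable (R I) in
theorem isPairHenselization : Hens2.IsPairHenselization R I (Hz R I) := by
  refine ⟨inferInstance, fun C _ J f hC hf => ?_⟩
  let _ : Algebra R C := f.toAlgebra
  let c : R ⧸ I →ₐ[R] C ⧸ J := Ideal.Quotient.liftₐ I (Algebra.ofId R (C ⧸ J)) fun a ha => by
    show Ideal.Quotient.mk J (f a) = 0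
    exact Ideal.Quotient.eq_zero_iff_mem.2 (hf (Ideal.mem_map_of_mem f ha))
  choose t ht using fun i : Idx R I =>
    (Hensel.bijective_comp_mk (E := i.S) (A := C) (I := J)).2 (c.comp i.pt)
  have htres : ∀ (i : Idx R I) (x : i.S), Ideal.Quotient.mk J (t i x) = c (i.pt x) := fun i x =>
    AlgHom.congr_fun (ht i) x
  have htu : ∀ (i : Idx R I) (s : i.T), IsUnit (t i s) := fun i s => by
    refine Hensel.isUnit_of_quotient hC.jac ?_
    rw [htres]
    exact s.2.map c
  let tL : ∀ i : Idx R I, i.L →ₐ[R] C := fun i =>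
    IsLocalization.liftAlgHom (M := i.T) (f := t i) (htu i)
  have htL : ∀ (i : Idx R I) (x : i.L), Ideal.Quotient.mk J (tL i x) = c (i.ε x) := by
    intro i x
    have : (Ideal.Quotient.mkₐ R J).comp (tL i) = c.comp i.ε :=
      IsLocalization.algHom_ext i.T (AlgHom.ext fun a => by
        show Ideal.Quotient.mk J (tL i (algebraMap i.S i.L a)) = c (i.ε (algebraMap i.S i.L a))
        rw [i.ε_algebraMap, ← htres]
        exact congrArg _ (IsLocalization.lift_eq _ a))
    exact AlgHom.congr_fun this x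
  have hcompat : ∀ i j h, ∀ x, tL j (tr i j h x) = tL i x := fun i j h x => by
    suffices (tL j).comp (tr i j h) = tL i from AlgHom.congr_fun this x
    refine IsLocalization.algHom_ext i.T (Hensel.algHom_unique (A := C) (I := J) hC.jac fun a => ?_)
    refine Ideal.Quotient.eq.1 ?_
    show Ideal.Quotient.mk J (tL j (tr i j h _)) = Ideal.Quotient.mk J (tL i _)
    rw [htL, htL, ← AlgHom.comp_apply j.ε, ε_tr]
  let g : Hz R I →ₐ[R] C := DirectLimit.Algebra.lift _ _ C tL hcompat
  exact ⟨g.toRingHom, RingHom.ext g.commutes, fun g' hg' =>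
    hom_ext (J := J) (hg'.trans (RingHom.ext g.commutes).symm) (hg' ▸ hf)⟩

end

end Groth.Agent.PairHens
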