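import Mathlib
import Groth.Agent.PairHens.Fp

/-!
The directed system of henselizations of finitely presented algebras mapping to a given algebra.
-/

universe u

namespace Groth.Agent.PairHens.Compact

noncomputable section

open scoped Classical

variable {A : Type u} [CommRing A] {I : Ideal A} {B : Type u} [CommRing B] [Algebra A B]

/-- Evaluation of polynomials in elements of `s`. -/
def ev (s : Finset B) : MvPolynomial {x // x ∈ s} A →ₐ[A] B := MvPolynomial.aeval fun x => (x : B)

/-- Change of variables. -/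
def emb {s t : Finset B} (h : s ⊆ t) :
    MvPolynomial {x // x ∈ s} A →ₐ[A] MvPolynomial {x // x ∈ t} A :=
  MvPolynomial.rename fun x => ⟨x.1, h x.2⟩

theorem ev_X {s : Finset B} (x : {x // x ∈ s}) : ev (A := A) s (MvPolynomial.X x) = x :=
  MvPolynomial.aeval_X _ _

theorem ev_emb {s t : Finset B} (h : s ⊆ t) (p : MvPolynomial {x // x ∈ s} A) :
    ev t (emb h p) = ev s p :=
  MvPolynomial.aeval_rename _ _ p

theorem emb_self {s : Finset B} (h : s ⊆ s) (p : MvPolynomial {x // x ∈ s} A) : emb h p = p :=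
  MvPolynomial.rename_id_apply p

theorem emb_emb {s t r : Finset B} (h : s ⊆ t) (h' : t ⊆ r) (p : MvPolynomial {x // x ∈ s} A) :
    emb h' (emb h p) = emb (h.trans h') p :=
  MvPolynomial.rename_rename _ _ p

variable (A B) in
/-- A finitely presented algebra mapping to `B`. -/
structure Idx : Type u where
  s : Finset B
  K : Ideal (MvPolynomial {x // x ∈ s} A)
  fg : K.FG
  le_ker : K ≤ RingHom.ker (ev (A := A) s).toRingHom

instance : Preorder (Idx A B) where
  le i j := ∃ h : i.s ⊆ j.s, i.K.map (emb h).toRingHom ≤ j.K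
  le_refl i := ⟨subset_rfl, by
    rw [show (emb (A := A) (subset_rfl (a := i.s))).toRingHom = RingHom.id _ from
      RingHom.ext (emb_self _), Ideal.map_id]⟩
  le_trans i j k := fun ⟨h₁, h₁'⟩ ⟨h₂, h₂'⟩ => ⟨h₁.trans h₂, by
    rw [show (emb (A := A) (h₁.trans h₂)).toRingHom = (emb h₂).toRingHom.comp (emb h₁).toRingHom from
      RingHom.ext fun p => (emb_emb h₁ h₂ p).symm, ← Ideal.map_map]
    exact (Ideal.map_mono h₁').trans h₂'⟩

theorem Idx.le_def {i j : Idx A B} :
    i ≤ j ↔ ∃ h : i.s ⊆ j.s, i.K.map (emb h).toRingHom ≤ j.K := Iff.rfl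

theorem Idx.sub {i j : Idx A B} (h : i ≤ j) : i.s ⊆ j.s := (Idx.le_def.1 h).1

theorem Idx.map_le {i j : Idx A B} (h : i ≤ j) : i.K.map (emb (Idx.sub h)).toRingHom ≤ j.K :=
  (Idx.le_def.1 h).2

/-- The free index on `s`. -/
abbrev base (s : Finset B) : Idx A B := ⟨s, ⊥, Submodule.fg_bot, bot_le⟩

instance : Nonempty (Idx A B) := ⟨base ∅⟩

theorem map_le_ker {s t : Finset B} (h : s ⊆ t) {K : Ideal (MvPolynomial {x // x ∈ s} A)}
    (hK : K ≤ RingHom.ker (ev (A := A) s).toRingHom) :
    K.map (emb h).toRingHom ≤ RingHom.ker (ev (A := A) t).toRingHom := by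
  rw [Ideal.map_le_iff_le_comap]
  intro p hp
  show ev t (emb h p) = 0
  rw [ev_emb]; exact hK hp

instance : IsDirectedOrder (Idx A B) := ⟨fun i j =>
  ⟨⟨i.s ∪ j.s, i.K.map (emb Finset.subset_union_left).toRingHom ⊔
      j.K.map (emb Finset.subset_union_right).toRingHom,
    Submodule.FG.sup (Ideal.FG.map i.fg _) (Ideal.FG.map j.fg _),
    sup_le (map_le_ker _ i.le_ker) (map_le_ker _ j.le_ker)⟩,
    Idx.le_def.2 ⟨Finset.subset_union_left, le_sup_left⟩,
    Idx.le_def.2 ⟨Finset.subset_union_right, le_sup_right⟩⟩⟩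

/-- The algebra. -/
abbrev Idx.S (i : Idx A B) : Type u := MvPolynomial {x // x ∈ i.s} A ⧸ i.K

variable (I) in
/-- Its henselization. -/
def Idx.Ra (i : Idx A B) : Type u := Hz i.S (I.map (algebraMap A i.S))

instance (i : Idx A B) : CommRing (i.Ra I) :=
  inferInstanceAs (CommRing (Hz i.S (I.map (algebraMap A i.S))))

instance (i : Idx A B) : Algebra i.S (i.Ra I) :=
  inferInstanceAs (Algebra i.S (Hz i.S (I.map (algebraMap A i.S))))

instance (i : Idx A B) : Algebra A (i.Ra I) :=
  ((algebraMap i.S (i.Ra I)).comp (algebraMap A i.S)).toAlgebra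

instance (i : Idx A B) : IsScalarTower A i.S (i.Ra I) :=
  IsScalarTower.of_algebraMap_eq (R := A) (S := i.S) (A := i.Ra I) fun _ => rfl

theorem Idx.hens (i : Idx A B) :
    Hens2.IsPairHenselization i.S (I.map (algebraMap A i.S)) (i.Ra I) :=
  PairHens.isPairHenselization _ _

instance (i : Idx A B) : HenselianRing (i.Ra I) (I.map (algebraMap A (i.Ra I))) := by
  have := (i.hens (I := I)).1
  rwa [Ideal.map_map, ← IsScalarTower.algebraMap_eq] at this

/-- Classes of polynomials. -/
def Idx.toRa (i : Idx A B) : MvPolynomial {x // x ∈ i.s} A →+* i.Ra I :=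
  (algebraMap i.S (i.Ra I)).comp (Ideal.Quotient.mk i.K)

theorem Idx.toRa_C (i : Idx A B) (c : A) :
    i.toRa (I := I) (MvPolynomial.C c) = algebraMap A (i.Ra I) c := rfl

theorem Idx.hom_ext (i : Idx A B) {D : Type u} [CommRing D] (J : Ideal D) [HenselianRing D J]
    {g₁ g₂ : i.Ra I →+* D} (h : g₁.comp (i.toRa) = g₂.comp (i.toRa))
    (hI : I.map (g₁.comp (algebraMap A (i.Ra I))) ≤ J) : g₁ = g₂ := by
  refine PairHens.ext_hom i.hens J (Ideal.Quotient.ringHom_ext h) ?_
  rw [Ideal.map_map]
  exact hI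

variable (I) in
theorem existsUnique_t (i j : Idx A B) (h : i ≤ j) :
    ∃! g : i.Ra I →+* j.Ra I, g.comp i.toRa = j.toRa.comp (emb (Idx.sub h)).toRingHom := by
  let f : i.S →+* j.Ra I := Ideal.Quotient.lift i.K (j.toRa.comp (emb (Idx.sub h)).toRingHom) fun p hp => by
    show algebraMap j.S (j.Ra I) (Ideal.Quotient.mk j.K (emb (Idx.sub h) p)) = 0
    have hm : emb (Idx.sub h) p ∈ j.K := Idx.map_le h (Ideal.mem_map_of_mem _ hp)
    rw [Ideal.Quotient.eq_zero_iff_mem.2 hm, map_zero]
  obtain ⟨g, hg, hu⟩ := (i.hens (I := I)).2 _ (I.map (algebraMap A (j.Ra I))) f inferInstance (by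
    rw [Ideal.map_map]
    refine le_of_eq (congrArg (I.map ·) (RingHom.ext fun c => ?_))
    show j.toRa (emb (Idx.sub h) (algebraMap A _ c)) = _
    rw [AlgHom.commutes]
    rfl)
  refine ⟨g, ?_, fun g' hg' => hu g' (Ideal.Quotient.ringHom_ext hg')⟩
  show (g.comp (algebraMap i.S (i.Ra I))).comp (Ideal.Quotient.mk i.K) = _
  rw [hg, Ideal.Quotient.lift_comp_mk]

variable (I) in
/-- Transition maps. -/
def t (i j : Idx A B) (h : i ≤ j) : i.Ra I →+* j.Ra I := (existsUnique_t I i j h).choose

theorem t_mk {i j : Idx A B} (h : i ≤ j) (p : MvPolynomial {x // x ∈ i.s} A) :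
    t I i j h (i.toRa p) = j.toRa (emb (Idx.sub h) p) :=
  RingHom.congr_fun (existsUnique_t I i j h).choose_spec.1 p

theorem t_algebraMap {i j : Idx A B} (h : i ≤ j) (c : A) :
    t I i j h (algebraMap A (i.Ra I) c) = algebraMap A (j.Ra I) c := by
  rw [← i.toRa_C, t_mk, ← MvPolynomial.algebraMap_eq, AlgHom.commutes]
  rfl

instance : DirectedSystem (Idx.Ra I (A := A) (B := B)) (fun i j h => t I i j h) where
  map_self i x := by
    refine RingHom.congr_fun (f := t I i i le_rfl) (g := RingHom.id _)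
      (i.hom_ext (I.map (algebraMap A (i.Ra I))) ?_ ?_) x
    · refine RingHom.ext fun p => ?_
      show t I i i le_rfl (i.toRa p) = i.toRa p
      rw [t_mk, emb_self]
    · exact le_of_eq (congrArg (I.map ·) (RingHom.ext fun c => t_algebraMap le_rfl c))
  map_map k j i hij hjk x := by
    refine RingHom.congr_fun (f := (t I j k hjk).comp (t I i j hij)) (g := t I i k (hij.trans hjk))
      (i.hom_ext (I.map (algebraMap A (k.Ra I))) ?_ ?_) x
    · refine RingHom.ext fun p => ?_
      show t I j k hjk (t I i j hij (i.toRa p)) = t I i k _ (i.toRa p)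
      rw [t_mk, t_mk, t_mk, emb_emb]
    · exact le_of_eq (congrArg (I.map ·) (RingHom.ext fun c => by
        show t I j k hjk (t I i j hij (algebraMap A _ c)) = _
        rw [t_algebraMap, t_algebraMap]))

variable (I A B) in
/-- The colimit. -/
abbrev L : Type u := DirectLimit (Idx.Ra I (A := A) (B := B)) (t I)

/-- Classes in the colimit. -/
def cls (i : Idx A B) : MvPolynomial {x // x ∈ i.s} A →+* L A I B :=
  (DirectLimit.Ring.of _ (t I) i).comp i.toRa

theorem cls_emb {i j : Idx A B} (h : i ≤ j) (p : MvPolynomial {x // x ∈ i.s} A) :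
    cls (I := I) j (emb (Idx.sub h) p) = cls i p := by
  show DirectLimit.Ring.of _ (t I) j (j.toRa (emb (Idx.sub h) p)) = _
  rw [← t_mk h, DirectLimit.Ring.of_f]
  rfl

theorem cls_eq_of_mem (j : Idx A B) (p q : MvPolynomial {x // x ∈ j.s} A) (h : p - q ∈ j.K) :
    cls (I := I) j p = cls j q :=
  congrArg (fun z : j.S => DirectLimit.Ring.of _ (t I) j (algebraMap j.S (j.Ra I) z))
    (Ideal.Quotient.eq.2 h)

theorem cls_eq (s : Finset B) (p q : MvPolynomial {x // x ∈ s} A) (h : ev s p = ev s q) :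
    cls (I := I) (base s) p = cls (base s) q := by
  let j : Idx A B := ⟨s, Ideal.span {p - q}, ⟨{p - q}, by simp⟩,
    (Ideal.span_singleton_le_iff_mem _).2 (show ev s (p - q) = 0 by rw [map_sub, h, sub_self])⟩
  have hj : base s ≤ j := Idx.le_def.2 ⟨subset_rfl, by
    rw [show (base s : Idx A B).K = ⊥ from rfl, Ideal.map_bot]; exact bot_le⟩
  rw [← cls_emb hj p, ← cls_emb hj q]
  refine cls_eq_of_mem j _ _ ?_
  rw [emb_self, emb_self]
  exact Ideal.mem_span_singleton_self _

/-- The class of an element. -/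
def X (b : B) : L A I B := cls (base {b}) (MvPolynomial.X ⟨b, Finset.mem_singleton_self b⟩)

theorem cls_X (s : Finset B) (b : B) (hb : b ∈ s) :
    cls (I := I) (base (A := A) s) (MvPolynomial.X ⟨b, hb⟩) = X b := by
  have h' : base {b} ≤ base (A := A) s := Idx.le_def.2 ⟨Finset.singleton_subset_iff.2 hb, by
    rw [show (base {b} : Idx A B).K = ⊥ from rfl, Ideal.map_bot]⟩
  show _ = cls (base {b}) _
  rw [← cls_emb h']
  congr 1
  show _ = MvPolynomial.rename _ _
  rw [MvPolynomial.rename_X]

theorem X_add (x y : B) : X (A := A) (I := I) (x + y) = X x + X y := by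
  rw [← cls_X {x, y, x + y} (x + y) (by simp), ← cls_X {x, y, x + y} x (by simp),
    ← cls_X {x, y, x + y} y (by simp), ← map_add]
  exact cls_eq _ _ _ (by rw [map_add, ev_X, ev_X, ev_X])

theorem X_mul (x y : B) : X (A := A) (I := I) (x * y) = X x * X y := by
  rw [← cls_X {x, y, x * y} (x * y) (by simp), ← cls_X {x, y, x * y} x (by simp),
    ← cls_X {x, y, x * y} y (by simp), ← map_mul]
  exact cls_eq _ _ _ (by rw [map_mul, ev_X, ev_X, ev_X])

theorem X_one : X (A := A) (I := I) (1 : B) = 1 := by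
  rw [← cls_X {1} 1 (Finset.mem_singleton_self _), cls_eq _ _ 1 (by rw [ev_X, map_one]), map_one]

theorem X_zero : X (A := A) (I := I) (0 : B) = 0 := by
  rw [← cls_X {0} 0 (Finset.mem_singleton_self _), cls_eq _ _ 0 (by rw [ev_X, map_zero]), map_zero]

theorem X_algebraMap (c : A) :
    X (I := I) (algebraMap A B c) = cls (base {algebraMap A B c}) (MvPolynomial.C c) :=
  cls_eq _ _ _ (by rw [ev_X, ← MvPolynomial.algebraMap_eq, AlgHom.commutes])

variable [HenselianRing B (I.map (algebraMap A B))]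

theorem existsUnique_p (i : Idx A B) :
    ∃! g : i.Ra I →+* B, g.comp i.toRa = (ev i.s).toRingHom := by
  obtain ⟨g, hg, hu⟩ := (i.hens (I := I)).2 B (I.map (algebraMap A B))
    (Ideal.Quotient.lift i.K (ev i.s).toRingHom fun p hp => i.le_ker hp) inferInstance (by
      rw [Ideal.map_map]
      exact le_of_eq (congrArg (I.map ·) (RingHom.ext fun c => (ev i.s).commutes c)))
  refine ⟨g, ?_, fun g' hg' => hu g' (Ideal.Quotient.ringHom_ext hg')⟩
  show (g.comp (algebraMap i.S (i.Ra I))).comp (Ideal.Quotient.mk i.K) = _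
  rw [hg, Ideal.Quotient.lift_comp_mk]

/-- The map to `B`. -/
def p (i : Idx A B) : i.Ra I →+* B := (existsUnique_p i).choose

theorem p_mk (i : Idx A B) (q : MvPolynomial {x // x ∈ i.s} A) : p (I := I) i (i.toRa q) = ev i.s q :=
  RingHom.congr_fun (existsUnique_p i).choose_spec.1 q

theorem p_algebraMap (i : Idx A B) (c : A) : p (I := I) i (algebraMap A (i.Ra I) c) = algebraMap A B c := by
  rw [← i.toRa_C, p_mk, ← MvPolynomial.algebraMap_eq, AlgHom.commutes]

theorem p_t {i j : Idx A B} (h : i ≤ j) (x : i.Ra I) : p j (t I i j h x) = p i x := by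
  refine RingHom.congr_fun (f := (p j).comp (t I i j h)) (g := p i)
    (i.hom_ext (I.map (algebraMap A B)) ?_ ?_) x
  · refine RingHom.ext fun q => ?_
    show p j (t I i j h (i.toRa q)) = p i (i.toRa q)
    rw [t_mk, p_mk, p_mk, ev_emb]
  · exact le_of_eq (congrArg (I.map ·) (RingHom.ext fun c => by
      show p j (t I i j h (algebraMap A _ c)) = _
      rw [t_algebraMap, p_algebraMap]))

/-- A section of `p a` makes `B` henselian finitely presented. -/
theorem exists_of_section (a : Idx A B) (φ : B →ₐ[A] a.Ra I) (hpφ : ∀ b, p a (φ b) = b) :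
    ∃ (R : Type u) (_ : CommRing R) (_ : Algebra A R) (_ : Algebra R B) (_ : IsScalarTower A R B),
      Algebra.FinitePresentation A R ∧ Hens2.IsPairHenselization R (I.map (algebraMap A R)) B := by
  let y : {x // x ∈ a.s} → a.Ra I := fun x => φ (x : B)
  obtain ⟨R', _, _, _, hbij, ψ, hψ⟩ := exists_nbhd_finset (a.hens (I := I)) (Finset.univ.image y)
  choose z hz using fun x : {x // x ∈ a.s} => hψ (Finset.mem_image_of_mem y (Finset.mem_univ x))
  letI : Algebra R' (a.Ra I) := ψ.toRingHom.toAlgebra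
  haveI : IsScalarTower a.S R' (a.Ra I) := .of_algebraMap_eq fun x => (ψ.commutes x).symm
  letI : Algebra A R' := ((algebraMap a.S R').comp (algebraMap A a.S)).toAlgebra
  haveI : IsScalarTower A a.S R' :=
    IsScalarTower.of_algebraMap_eq (R := A) (S := a.S) (A := R') fun _ => rfl
  haveI : Algebra.FinitePresentation A a.S := Algebra.FinitePresentation.quotient a.fg
  haveI : Algebra.FinitePresentation A R' := Algebra.FinitePresentation.trans A a.S R'
  have hR' := isPairHenselization_nbhd (a.hens (I := I)) hbij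
  rw [Ideal.map_map] at hR'
  let rel : Finset R' := Finset.univ.image fun x : {x // x ∈ a.s} =>
    z x - algebraMap a.S R' (Ideal.Quotient.mk a.K (MvPolynomial.X x))
  let RB : R' →ₐ[A] B :=
    { toRingHom := (p a).comp ψ.toRingHom
      commutes' := fun c => by
        show p a (ψ (algebraMap a.S R' (algebraMap A a.S c))) = _
        rw [ψ.commutes]
        exact p_algebraMap a c }
  have hRB : ∀ w ∈ rel, RB w = 0 := by
    intro w hw
    obtain ⟨x, -, rfl⟩ := Finset.mem_image.1 hw
    show p a (ψ (_ - _)) = 0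
    rw [map_sub, hz, ψ.commutes, map_sub]
    show p a (φ (x : B)) - p a (a.toRa (MvPolynomial.X x)) = 0
    rw [hpφ, p_mk, ev_X, sub_self]
  let TB : R' ⧸ Ideal.span (rel : Set R') →ₐ[A] B := Ideal.Quotient.liftₐ _ RB fun w hw =>
    (Ideal.span_le.2 fun q hq => RingHom.mem_ker.2 (hRB q hq) : _ ≤ RingHom.ker RB) hw
  letI : Algebra (R' ⧸ Ideal.span (rel : Set R')) B := TB.toRingHom.toAlgebra
  haveI hT : IsScalarTower A (R' ⧸ Ideal.span (rel : Set R')) B :=
    IsScalarTower.of_algebraMap_eq (R := A) (S := R' ⧸ Ideal.span (rel : Set R')) (A := B)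
      fun c => (TB.commutes c).symm
  refine ⟨R' ⧸ Ideal.span (rel : Set R'), inferInstance, inferInstance, inferInstance, hT,
    Algebra.FinitePresentation.quotient ⟨rel, rfl⟩, ?_, ?_⟩
  · rw [Ideal.map_map, ← IsScalarTower.algebraMap_eq]; infer_instance
  · intro D _ J f hD hf
    rw [Ideal.map_map] at hf
    obtain ⟨g, hg, hu⟩ := hR'.2 D J (f.comp (Ideal.Quotient.mk _)) hD
      (by rw [Ideal.map_map]; exact hf)
    have hgA : ∀ c, g (algebraMap A (a.Ra I) c) = f (algebraMap A _ c) := fun c => by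
      rw [show algebraMap A (a.Ra I) c = ψ (algebraMap A R' c) from (ψ.commutes _).symm]
      exact RingHom.congr_fun hg (algebraMap A R' c)
    have hfix : (g.comp φ.toRingHom).comp (p a) = g := by
      haveI := hD
      refine a.hom_ext J (MvPolynomial.ringHom_ext (fun c => ?_) fun x => ?_) ?_
      · show g (φ (p a (a.toRa (MvPolynomial.C c)))) = g (a.toRa (MvPolynomial.C c))
        rw [a.toRa_C, p_algebraMap, φ.commutes]
      · show g (φ (p a (a.toRa (MvPolynomial.X x)))) = g (a.toRa (MvPolynomial.X x))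
        rw [p_mk, ev_X, show φ (x : B) = ψ (z x) from (hz x).symm,
          show a.toRa (I := I) (MvPolynomial.X x) = ψ (algebraMap a.S R' (Ideal.Quotient.mk a.K (MvPolynomial.X x)))
            from (ψ.commutes _).symm]
        show (g.comp (algebraMap R' (a.Ra I))) (z x) = (g.comp (algebraMap R' (a.Ra I))) _
        rw [hg]
        refine congrArg f (Ideal.Quotient.eq.2 ?_)
        exact Ideal.subset_span (Finset.mem_image_of_mem _ (Finset.mem_univ x))
      · refine le_trans (le_of_eq (congrArg (I.map ·) (RingHom.ext fun c => ?_))) hf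
        show g (φ (p a (algebraMap A (a.Ra I) c))) = _
        rw [p_algebraMap, φ.commutes]
        exact hgA c
    refine ⟨g.comp φ.toRingHom, ?_, fun g' hg' => ?_⟩
    · show (g.comp φ.toRingHom).comp TB.toRingHom = f
      refine Ideal.Quotient.ringHom_ext ?_
      rw [RingHom.comp_assoc]
      show (g.comp φ.toRingHom).comp ((p a).comp ψ.toRingHom) = _
      rw [← RingHom.comp_assoc, hfix]
      exact hg
    · have h1 : g'.comp (p a) = g :=
        hu _ (RingHom.ext fun w => RingHom.congr_fun hg' (Ideal.Quotient.mk _ w))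
      refine RingHom.ext fun b => ?_
      show g' b = g (φ b)
      rw [← h1]
      exact (congrArg g' (hpφ b)).symm

end

end Groth.Agent.PairHens.Compact
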